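import Groth.Agent.KExact.CohShriek
import Groth.Prelude.Def_DDual2

/-!
# The dualizing module is coherent
-/

set_option autoImplicit false
set_option linter.style.haveILetI false
set_option backward.isDefEq.respectTransparency false
set_option backward.isDefEq.respectTransparency.types false
set_option maxHeartbeats 1000000

universe u

open CategoryTheory CategoryTheory.Limits AlgebraicGeometry

attribute [local instance] HasDerivedCategory.standard

noncomputable section

namespace Groth.Agent.CurveDual

open Groth.Agent KFlatLib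

/-- The dualizing modules of a proper scheme over a Noetherian base are coherent. -/
theorem isCoh_HD_dualizingCx {X Y : Scheme.{u}} [IsNoetherian Y] (f : X ⟶ Y) [IsProper f] [DCoh.HasRpush f]
    (h : DCoh.RpushPreservesQCoh f) [DCoh.HasShriek f h] (OY : DCoh.DQCoh Y)
    (hOY : Nonempty (OY.obj ≅ DCoh.inD Y (Coh.structureModule Y))) (i : ℤ) :
    Coh.IsCoh (DCoh.HD (DCoh.dualizingCx f h OY) i) := by
  obtain ⟨eO⟩ := hOY
  haveI : IsLocallyNoetherian X := LocallyOfFiniteType.isLocallyNoetherian f
  haveI : CompactSpace X := QuasiCompact.compactSpace_of_compactSpace f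
  haveI : IsNoetherian X := ⟨⟩
  haveI : OY.obj.IsGE 0 := DerivedCategory.TStructure.t.isGE_of_iso eO.symm 0
  have hK : DCoh.IsCohD OY.obj := fun j => by
    refine isCoh_of_iso ((DerivedCategory.homologyFunctor Y.Modules j).mapIso eO).symm ?_
    by_cases hj : j = 0
    · subst hj
      exact isCoh_of_iso (hSingle 0 _).symm QCoh.isCoh_structureModule'
    · exact isCoh_of_isZero (hd_single_isZero _ j hj)
  have hC := KExact.CohShriek.isCohD_shriek (𝟙 X) f (DCoh.shriekAdj f h) OY ⟨0, inferInstance⟩ hK i
  exact isCoh_of_local fun x => ⟨X, 𝟙 X, inferInstance, ⟨x, rfl⟩, isCoh_of_iso (restrictHDIso (𝟙 X) _ i) hC⟩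

theorem isCoh_dualizingMod {X Y : Scheme.{u}} [IsNoetherian Y] (f : X ⟶ Y) [IsProper f] [DCoh.HasRpush f]
    (h : DCoh.RpushPreservesQCoh f) [DCoh.HasShriek f h] (OY : DCoh.DQCoh Y)
    (hOY : Nonempty (OY.obj ≅ DCoh.inD Y (Coh.structureModule Y))) (n : ℕ) :
    Coh.IsCoh (DCoh.dualizingMod f h OY n) := isCoh_HD_dualizingCx f h OY hOY _

end Groth.Agent.CurveDual
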