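import Groth.Agent.CurveDual.Trunc
import Groth.Agent.KFlatLib.Scheme.ProjAffineFlat
import Groth.Agent.Lib.DualPair
import Groth.Prelude.Def_Canon
import Groth.Agent.CohPullX.Edge

/-!
# The dualizing module of a curve is a dualizing sheaf
-/

set_option autoImplicit false
set_option linter.style.haveILetI false
set_option linter.unusedSectionVars false
set_option backward.isDefEq.respectTransparency false
set_option backward.isDefEq.respectTransparency.types false
set_option maxHeartbeats 200000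
set_option synthInstance.maxHeartbeats 200000

universe u

open CategoryTheory CategoryTheory.Limits CategoryTheory.Pretriangulated AlgebraicGeometry TopologicalSpace Opposite
open CategoryTheory.Abelian

attribute [local instance] HasDerivedCategory.standard

noncomputable section

namespace Groth.Agent.CurveDual

open Groth.Agent KFlatLib

variable {k : Type u} [Field k] {X : Scheme.{u}} [X.Over (Spec (CommRingCat.of k))]
  [HasExt.{u} X.Modules]

local notation "OX" => Coh.structureModule X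
local notation "O'" => Coh.structureModule (Spec (CommRingCat.of k))

/-- The unit class. -/
def oneH : Coh.HH X (OX) 0 :=
  (Sheaf.H.equiv₀ (Coh.toAb (OX)) isTerminalTop).symm (1 : Γ(X, ⊤))

/-- `Ext^1(O, F) → H^1(F)`. -/
def extH (F : X.Modules) : Ext.{u} (OX) F 1 →+ Coh.HH X F 1 :=
  AddMonoidHom.mk' (fun e => DualPair.cup (zero_add 1) e (oneH (X := X))) fun e e' => by
    simp only [DualPair.cup_apply, Ext.mapExactFunctor_add, Ext.comp_add]

theorem bijective_extH₀ (F : X.Modules) :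
    Function.Bijective fun g : OX ⟶ F => Sheaf.H.map ((QCoh.toAbFunctor X).map g) 0 (oneH (X := X)) := by
  let e := Sheaf.H.equiv₀ (Coh.toAb F) isTerminalTop
  have key : ∀ g : OX ⟶ F, e (Sheaf.H.map ((QCoh.toAbFunctor X).map g) 0 (oneH (X := X))) = InvX.one g := fun g => by
    refine (Sheaf.H.equiv₀_naturality _ _ _).symm.trans ?_
    exact (congrArg _ (AddEquiv.apply_symm_apply (Sheaf.H.equiv₀ (Coh.toAb (OX)) isTerminalTop)
      (1 : Γ(X, ⊤)))).trans rfl
  refine ⟨fun g g' hg => ?_, fun x => ⟨InvX.ofSect (show Γ(F, ⊤) from e x), e.injective ?_⟩⟩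
  · exact (AVAmple.ofSect_one g).symm.trans ((congrArg InvX.ofSect
      ((key g).symm.trans ((congrArg e hg).trans (key g')))).trans (AVAmple.ofSect_one g'))
  · exact (key _).trans (InvX.one_ofSect _)

theorem extH_comp {F G : X.Modules} (e : Ext.{u} (OX) F 1) (φ : F ⟶ G) :
    extH G (e.comp (Ext.mk₀ φ) (add_zero 1)) = Sheaf.H.map ((QCoh.toAbFunctor X).map φ) 1 (extH F e) :=
  DualPair.cup_postcomp (zero_add 1) φ e _

theorem bijective_extH (F : X.Modules) : Function.Bijective (extH (X := X) F) := by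
  let S := injSeq F
  have hS := injSeq_shortExact F
  have hA := hS.map_of_exact (QCoh.toAbFunctor X)
  have hI : Subsingleton (Coh.HH X S.X₂ 1) :=
    CohPullX.subsingleton_H_of_flasque _ (QCoh.isFlasqueMod_of_injective S.X₂) 0
  have hδ : ∀ g : OX ⟶ S.X₃, extH F ((Ext.mk₀ g).comp hS.extClass (zero_add 1)) =
      Ext.comp (Sheaf.H.map ((QCoh.toAbFunctor X).map g) 0 (oneH (X := X))) hA.extClass (zero_add 1) := fun g => by
    show DualPair.cup (zero_add 1) _ _ = _
    rw [DualPair.cup_apply, Ext.mapExactFunctor_comp, Ext.mapExactFunctor_mk₀, Ext.mapExactFunctor_extClass,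
      Sheaf.H.map_apply]
    exact (Ext.comp_assoc_of_second_deg_zero _ _ _ _).symm
  refine ⟨(injective_iff_map_eq_zero _).2 fun e he => ?_, fun x => ?_⟩
  · obtain ⟨g₀, rfl⟩ := Ext.covariant_sequence_exact₁ (OX) hS e
      (Ext.eq_zero_of_injective _) (zero_add 1)
    obtain ⟨g, rfl⟩ := (Ext.mk₀_bijective _ _).2 g₀
    rw [hδ] at he
    obtain ⟨w, hw⟩ := Ext.covariant_sequence_exact₃ _ hA _ (zero_add 1) he
    obtain ⟨g', rfl⟩ := (bijective_extH₀ (X := X) S.X₂).2 w
    have hg : g = g' ≫ S.g := (bijective_extH₀ (X := X) S.X₃).1 (by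
      show Sheaf.H.map ((QCoh.toAbFunctor X).map g) 0 (oneH (X := X)) =
        Sheaf.H.map ((QCoh.toAbFunctor X).map (g' ≫ S.g)) 0 (oneH (X := X))
      rw [Functor.map_comp, Sheaf.H.map_comp_apply]
      exact hw.symm)
    rw [hg, ← Ext.mk₀_comp_mk₀, Ext.comp_assoc_of_second_deg_zero, hS.comp_extClass, Ext.comp_zero]
  · obtain ⟨z, hz⟩ := Ext.covariant_sequence_exact₁ _ hA x
      (hI.elim _ _) (zero_add 1)
    obtain ⟨g, rfl⟩ := (bijective_extH₀ (X := X) S.X₃).2 z
    exact ⟨_, (hδ g).trans hz⟩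

/-- Classes as morphisms in the derived category. -/
def sigma (F : X.Modules) : Coh.HH X F 1 ≃ (DCoh.inD X (OX) ⟶ (DCoh.inD X F)⟦(1 : ℤ)⟧) :=
  (Equiv.ofBijective _ (bijective_extH F)).symm.trans Ext.homEquiv

theorem sigma_extH {F : X.Modules} (e : Ext.{u} (OX) F 1) : sigma F (extH F e) = e.hom := by
  show Ext.homEquiv ((Equiv.ofBijective _ (bijective_extH F)).symm _) = _
  rw [Equiv.ofBijective_symm_apply_apply]

theorem exists_eq_extH {F : X.Modules} (x : Coh.HH X F 1) : ∃ e, extH F e = x := (bijective_extH F).2 x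

theorem sigma_add {F : X.Modules} (x y : Coh.HH X F 1) : sigma F (x + y) = sigma F x + sigma F y := by
  obtain ⟨a, rfl⟩ := exists_eq_extH x
  obtain ⟨b, rfl⟩ := exists_eq_extH y
  rw [← map_add, sigma_extH, sigma_extH, sigma_extH, Ext.add_hom]

theorem sigma_map {F G : X.Modules} (φ : F ⟶ G) (x : Coh.HH X F 1) :
    sigma G (Sheaf.H.map ((QCoh.toAbFunctor X).map φ) 1 x) =
      sigma F x ≫ ((DerivedCategory.singleFunctor X.Modules 0).map φ)⟦(1 : ℤ)⟧' := by
  obtain ⟨a, rfl⟩ := exists_eq_extH x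
  rw [← extH_comp, sigma_extH, sigma_extH, Ext.comp_hom, Ext.mk₀_hom]
  exact ShiftedHom.comp_mk₀ _ _ rfl _

theorem sigma_smul {F : X.Modules} (a : k) (x : Coh.HH X F 1) :
    sigma F (a • x) = (DerivedCategory.singleFunctor X.Modules 0).map (a • 𝟙 (OX)) ≫ sigma F x := by
  obtain ⟨e, rfl⟩ := exists_eq_extH x
  have hce : (Ext.mk₀ (a • 𝟙 (OX))).comp e (zero_add 1) = e.comp (Ext.mk₀ (a • 𝟙 F)) (add_zero 1) := by
    rw [Ext.mk₀_smul, Ext.smul_comp, Ext.mk₀_id_comp, Ext.smul_eq_comp_mk₀]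
  rw [DualPair.smul_HH, ← extH_comp, sigma_extH, sigma_extH, ← hce, Ext.comp_hom, Ext.mk₀_hom]
  exact ShiftedHom.mk₀_comp _ rfl _ _

variable [IsProper (X ↘ Spec (CommRingCat.of k))]

/-- The scalar endomorphisms of `O` over the field. -/
def scal (a : k) : O' ⟶ O' :=
  InvX.ofSect (M := O') ((Scheme.ΓSpecIso (CommRingCat.of k)).inv a)

theorem scal_surjective (c : O' ⟶ O') : ∃ a : k, scal a = c := by
  obtain ⟨a, ha⟩ := (ConcreteCategory.bijective_of_isIso (Scheme.ΓSpecIso (CommRingCat.of k)).inv).2 (InvX.one c)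
  exact ⟨a, (congrArg InvX.ofSect ha).trans (AVAmple.ofSect_one c)⟩

/-- The value of an endomorphism of `O`. -/
def val (c : O' ⟶ O') : k := (Scheme.ΓSpecIso (CommRingCat.of k)).hom (InvX.one c)

theorem val_scal (a : k) : val (scal a) = a := by
  rw [val, scal, InvX.one_ofSect]
  exact congr($((Scheme.ΓSpecIso (CommRingCat.of k)).inv_hom_id) a)

theorem val_add (c c' : O' ⟶ O') : val (c + c') = val c + val c' := by
  show ((Scheme.ΓSpecIso (CommRingCat.of k)).hom) _ = _
  rw [AmpleX.one_add]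
  exact map_add (Scheme.ΓSpecIso (CommRingCat.of k)).hom.hom _ _

theorem val_scal_comp (a : k) (c : O' ⟶ O') : val (scal a ≫ c) = a * val c := by
  show ((Scheme.ΓSpecIso (CommRingCat.of k)).hom) _ = _
  rw [AmpleVan.one_comp, scal, InvX.one_ofSect]
  refine (congrArg _ ((InvX.app_eq_smul c _).trans (congrArg _ (AModX.res_self _)))).trans ?_
  refine (map_mul (Scheme.ΓSpecIso (CommRingCat.of k)).hom.hom _ _).trans ?_
  exact congrArg (· * val c) congr($((Scheme.ΓSpecIso (CommRingCat.of k)).inv_hom_id) a)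

/-- The value of an endomorphism in the derived category. -/
def valD (z : DCoh.inD _ (O') ⟶ DCoh.inD _ (O')) : k :=
  val ((Equiv.ofBijective _ (single_bijective (k := k))).symm z)

theorem valD_map (c : O' ⟶ O') : valD ((DerivedCategory.singleFunctor _ 0).map c) = val c := by
  rw [valD]
  exact congrArg val ((Equiv.ofBijective _ (single_bijective (k := k))).symm_apply_apply c)

theorem exists_map_eq (z : DCoh.inD _ (O') ⟶ DCoh.inD _ (O')) :
    ∃ a : k, (DerivedCategory.singleFunctor _ 0).map (scal a) = z := by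
  obtain ⟨c, rfl⟩ := (single_bijective (k := k)).2 z
  obtain ⟨a, rfl⟩ := scal_surjective c
  exact ⟨a, rfl⟩

theorem valD_injective : Function.Injective (valD (k := k)) := fun z z' hz => by
  obtain ⟨a, rfl⟩ := exists_map_eq z
  obtain ⟨b, rfl⟩ := exists_map_eq z'
  rw [valD_map, valD_map, val_scal, val_scal] at hz
  rw [hz]

theorem valD_add (z z' : DCoh.inD _ (O') ⟶ DCoh.inD _ (O')) : valD (z + z') = valD z + valD z' := by
  obtain ⟨a, rfl⟩ := exists_map_eq z
  obtain ⟨b, rfl⟩ := exists_map_eq z'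
  rw [← Functor.map_add, valD_map, valD_map, valD_map, val_add]

theorem valD_scal_comp (a : k) (z : DCoh.inD _ (O') ⟶ DCoh.inD _ (O')) :
    valD ((DerivedCategory.singleFunctor _ 0).map (scal a) ≫ z) = a * valD z := by
  obtain ⟨b, rfl⟩ := exists_map_eq z
  rw [← Functor.map_comp, valD_map, valD_map, val_scal_comp]

variable [DCoh.HasRpush (X ↘ Spec (CommRingCat.of k))]

theorem oneMap_smul (a : k) :
    oneMap (X ↘ Spec (CommRingCat.of k)) ≫ (Scheme.Modules.pushforward (X ↘ Spec (CommRingCat.of k))).map (a • 𝟙 (OX)) = scal a ≫ oneMap (X ↘ Spec (CommRingCat.of k)) := by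
  rw [← AVAmple.ofSect_one (oneMap (X ↘ Spec (CommRingCat.of k)) ≫ _), ← AVAmple.ofSect_one (scal a ≫ _)]
  congr 1
  rw [AmpleVan.one_comp, AmpleVan.one_comp, oneMap, InvX.one_ofSect, scal, InvX.one_ofSect]
  refine Eq.trans ?_ ((InvX.app_eq_smul _ _).trans (congrArg _
    ((AModX.res_self _).trans (InvX.one_ofSect _)))).symm
  refine (KLin.smul_app_apply a (𝟙 (OX)) ((X ↘ Spec (CommRingCat.of k)) ⁻¹ᵁ ⊤) (1 : Γ(X, (X ↘ Spec (CommRingCat.of k)) ⁻¹ᵁ ⊤))).trans ?_
  show X.presheaf.map (homOfLE (le_top : (X ↘ Spec (CommRingCat.of k)) ⁻¹ᵁ ⊤ ≤ ⊤)).op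
      ((X ↘ Spec (CommRingCat.of k)).appTop ((Scheme.ΓSpecIso (CommRingCat.of k)).inv a)) * 1 =
    (X ↘ Spec (CommRingCat.of k)).app ⊤ ((Scheme.ΓSpecIso (CommRingCat.of k)).inv a) * 1
  exact congrArg (· * 1) (QCoh.map_id' (M := Coh.structureModule X) _ _)

theorem eta_smul (a : k) :
    eta (X ↘ Spec (CommRingCat.of k)) ≫ (DCoh.Rpush (X ↘ Spec (CommRingCat.of k))).map ((DerivedCategory.singleFunctor X.Modules 0).map (a • 𝟙 (OX))) =
      (DerivedCategory.singleFunctor _ 0).map (scal a) ≫ eta (X ↘ Spec (CommRingCat.of k)) := by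
  rw [eta, Category.assoc, ← uMap_naturality, ← Functor.map_comp_assoc, oneMap_smul, Functor.map_comp,
    Category.assoc]

/-- Classes as classes of the direct image. -/
def tau (F : X.Modules) (x : Coh.HH X F 1) :
    DCoh.inD _ (O') ⟶ (DCoh.Rpush (X ↘ Spec (CommRingCat.of k))).obj ((DCoh.inD X F)⟦(1 : ℤ)⟧) :=
  beta (X ↘ Spec (CommRingCat.of k)) (sigma F x)

theorem bijective_tau (F : X.Modules) : Function.Bijective (tau (k := k) F) :=
  (bijective_beta₁ (X ↘ Spec (CommRingCat.of k)) F).comp (sigma F).bijective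

theorem tau_add {F : X.Modules} (x y : Coh.HH X F 1) : tau (k := k) F (x + y) = tau F x + tau F y := by
  rw [tau, sigma_add, beta_add]; rfl

theorem tau_smul {F : X.Modules} (a : k) (x : Coh.HH X F 1) :
    tau F (a • x) = (DerivedCategory.singleFunctor _ 0).map (scal a) ≫ tau (k := k) F x := by
  rw [tau, sigma_smul, tau, beta, beta, Functor.map_comp, ← Category.assoc, eta_smul, Category.assoc]

theorem tau_map {F G : X.Modules} (φ : F ⟶ G) (x : Coh.HH X F 1) :
    tau (k := k) G (Sheaf.H.map ((QCoh.toAbFunctor X).map φ) 1 x) =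
      tau F x ≫ (DCoh.Rpush (X ↘ Spec (CommRingCat.of k))).map (((DerivedCategory.singleFunctor X.Modules 0).map φ)⟦(1 : ℤ)⟧') := by
  rw [tau, sigma_map, beta_comp]; rfl

variable (hdim : topologicalKrullDim X ≤ 1) (h : DCoh.RpushPreservesQCoh (X ↘ Spec (CommRingCat.of k))) [DCoh.HasShriek (X ↘ Spec (CommRingCat.of k)) h]
  (OY : DCoh.DQCoh (Spec (CommRingCat.of k))) (eO : OY.obj ≅ DCoh.inD (Spec (CommRingCat.of k)) (Coh.structureModule (Spec (CommRingCat.of k))))

theorem isQCoh_dualizingMod : Coh.IsQCoh (DCoh.dualizingMod (X ↘ Spec (CommRingCat.of k)) h OY 1) := isQCohD_dualizingCx (X ↘ Spec (CommRingCat.of k)) h OY (-1)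

/-- `F[1]`. -/
def shiftObj {F : X.Modules} (hF : Coh.IsQCoh F) : DCoh.DQCoh X :=
  ⟨(DCoh.inD X F)⟦(1 : ℤ)⟧, isQCohD_shift (isQCohD_inD_of_isQCoh hF) 1⟩

include hdim eO in
/-- The dualizing module of a curve is dualizing. -/
theorem exists_isRDualOver : ∃ t, Canon.IsRDualOver k X 1 (DCoh.dualizingMod (X ↘ Spec (CommRingCat.of k)) h OY 1) t := by
  obtain ⟨ι, hι⟩ := exists_incl (X ↘ Spec (CommRingCat.of k)) hdim h OY eO
  have hω := isQCoh_dualizingMod h OY
  let θ : ∀ {F : X.Modules} (hF : Coh.IsQCoh F), (F ⟶ (DCoh.dualizingMod (X ↘ Spec (CommRingCat.of k)) h OY 1)) →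
      ((DCoh.Rpush (X ↘ Spec (CommRingCat.of k))).obj ((DCoh.inD X F)⟦(1 : ℤ)⟧) ⟶ DCoh.inD _ (O')) := fun {F} hF φ =>
    adjEquiv (X ↘ Spec (CommRingCat.of k)) h OY eO (shiftObj hF) (((DerivedCategory.singleFunctor X.Modules 0).map φ)⟦(1 : ℤ)⟧' ≫ ι)
  have hθ : ∀ {F : X.Modules} (hF : Coh.IsQCoh F), Function.Bijective (θ hF) := fun {F} hF =>
    (adjEquiv (X ↘ Spec (CommRingCat.of k)) h OY eO (shiftObj hF)).bijective.comp (hι F)
  let T : (DCoh.Rpush (X ↘ Spec (CommRingCat.of k))).obj ((DCoh.inD X (DCoh.dualizingMod (X ↘ Spec (CommRingCat.of k)) h OY 1))⟦(1 : ℤ)⟧) ⟶ DCoh.inD _ (O') :=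
    adjEquiv (X ↘ Spec (CommRingCat.of k)) h OY eO (shiftObj hω) ι
  have hnat : ∀ {F : X.Modules} (hF : Coh.IsQCoh F) (φ : F ⟶ (DCoh.dualizingMod (X ↘ Spec (CommRingCat.of k)) h OY 1)), θ hF φ =
      (DCoh.Rpush (X ↘ Spec (CommRingCat.of k))).map (((DerivedCategory.singleFunctor X.Modules 0).map φ)⟦(1 : ℤ)⟧') ≫ T :=
    fun {F} hF φ => adjEquiv_comp (X ↘ Spec (CommRingCat.of k)) h OY eO (K := shiftObj hF) (L := shiftObj hω) _ ι
  let t : Coh.HH X (DCoh.dualizingMod (X ↘ Spec (CommRingCat.of k)) h OY 1) 1 →ₗ[k] k :=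
    { toFun := fun x => valD (tau (DCoh.dualizingMod (X ↘ Spec (CommRingCat.of k)) h OY 1) x ≫ T)
      map_add' := fun x y => by rw [tau_add, Preadditive.add_comp, valD_add]
      map_smul' := fun a x => by rw [tau_smul, Category.assoc, valD_scal_comp]; rfl }
  refine ⟨t, hω, fun F hF => ?_⟩
  have key : ∀ φ x, Canon.dualityMap k X 1 (DCoh.dualizingMod (X ↘ Spec (CommRingCat.of k)) h OY 1) t F φ x = valD (tau F x ≫ θ hF φ) := fun φ x => by
    rw [hnat, ← Category.assoc, ← tau_map]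
    rfl
  haveI : DerivedCategory.IsLE ((DCoh.inD X F)⟦(1 : ℤ)⟧) (-1) :=
    DerivedCategory.TStructure.t.isLE_shift (DCoh.inD X F) 0 1 (-1) (by omega)
  haveI : DerivedCategory.IsLE ((DCoh.Rpush (X ↘ Spec (CommRingCat.of k))).obj ((DCoh.inD X F)⟦(1 : ℤ)⟧)) 0 :=
    (DerivedCategory.isLE_iff _ _).2 fun j hj =>
      isZero_hd_rpush (X ↘ Spec (CommRingCat.of k)) hdim (K := (DCoh.inD X F)⟦(1 : ℤ)⟧) (shiftObj hF).property (-1) j (by omega)
  obtain ⟨hext, hex⟩ := bijective_pairing ((DCoh.Rpush (X ↘ Spec (CommRingCat.of k))).obj ((DCoh.inD X F)⟦(1 : ℤ)⟧))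
    (h _ (shiftObj hF).property 0)
  refine ⟨fun φ φ' hφ => (hθ hF).1 (hext _ _ fun y => ?_), fun l => ?_⟩
  · obtain ⟨x, rfl⟩ := (bijective_tau (k := k) F).2 y
    refine valD_injective ?_
    rw [← key, ← key, hφ]
  · let σ := (Equiv.ofBijective _ (bijective_tau (k := k) F)).symm
    have hσ : ∀ y, tau F (σ y) = y := fun y =>
      (Equiv.ofBijective _ (bijective_tau (k := k) F)).apply_symm_apply y
    obtain ⟨ψ, hψ⟩ := hex (fun y => (DerivedCategory.singleFunctor _ 0).map (scal (l (σ y))))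
      (fun y y' => valD_injective (by
        rw [valD_add, valD_map, valD_map, valD_map, val_scal, val_scal, val_scal, ← map_add]
        congr 1
        exact (bijective_tau (k := k) F).1 (by rw [tau_add, hσ, hσ, hσ])))
      (fun c y => valD_injective (by
        obtain ⟨a, rfl⟩ := scal_surjective c
        rw [valD_map, val_scal, valD_scal_comp, valD_map, val_scal, ← smul_eq_mul, ← map_smul]
        congr 1
        exact (bijective_tau (k := k) F).1 (by rw [tau_smul, hσ, hσ])))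
    obtain ⟨φ, rfl⟩ := (hθ hF).2 ψ
    refine ⟨φ, LinearMap.ext fun x => ?_⟩
    rw [key, hψ, valD_map, val_scal]
    exact congrArg l ((Equiv.ofBijective _ (bijective_tau (k := k) F)).symm_apply_apply x)

end Groth.Agent.CurveDual

namespace Groth.Agent.CurveDual

variable {k : Type u} [Field k] {X : Scheme.{u}} [X.Over (Spec (CommRingCat.of k))]
  [IsProper (X ↘ Spec (CommRingCat.of k))] [DCoh.HasRpush (X ↘ Spec (CommRingCat.of k))]

/-- The form used by statements. -/
theorem exists_isRDualOver' (hdim : topologicalKrullDim X ≤ 1)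
    (h : DCoh.RpushPreservesQCoh (X ↘ Spec (CommRingCat.of k))) [DCoh.HasShriek (X ↘ Spec (CommRingCat.of k)) h]
    (OY : DCoh.DQCoh (Spec (CommRingCat.of k)))
    (hOY : Nonempty (OY.obj ≅ DCoh.inD (Spec (CommRingCat.of k))
      (Coh.structureModule (Spec (CommRingCat.of k))))) :
    ∃ t, Canon.IsRDualOver k X 1 (DCoh.dualizingMod (X ↘ Spec (CommRingCat.of k)) h OY 1) t := by
  haveI : HasExt.{u} X.Modules := IsGrothendieckAbelian.hasExt _
  obtain ⟨eO⟩ := hOY
  exact exists_isRDualOver hdim h OY eO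

end Groth.Agent.CurveDual
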