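import Groth.Agent.CurveDual.Main
import Groth.Agent.SheafHomX.Smul
import Groth.Agent.H23.Chern.Dual

/-!
# Consequences of duality on curves
-/

set_option autoImplicit false
set_option linter.style.haveILetI false
set_option linter.unusedSectionVars false
set_option backward.isDefEq.respectTransparency false
set_option backward.isDefEq.respectTransparency.types false
set_option maxHeartbeats 1000000
set_option synthInstance.maxHeartbeats 200000

universe u

open CategoryTheory CategoryTheory.Limits AlgebraicGeometry TopologicalSpace Opposite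

noncomputable section

namespace Groth.Agent.CurveDual

open Groth.Agent

variable {k : Type u} [Field k] {X : Scheme.{u}} [X.Over (Spec (CommRingCat.of k))]
  {ω : X.Modules} {t : Coh.HH X ω 1 →ₗ[k] k}

theorem forall_dual {K : Type*} [Field K] {V : Type*} [AddCommGroup V] [Module K V] (x : V)
    (h : ∀ l : Module.Dual K V, l x = 0) : x = 0 :=
  (Module.forall_dual_apply_eq_zero_iff K x).1 h

theorem dualityMap_apply {r : ℕ} {t : Coh.HH X ω r →ₗ[k] k} {F : X.Modules} (φ : F ⟶ ω) (x : Coh.HH X F r) :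
    Canon.dualityMap k X r ω t F φ x = t (Sheaf.H.map ((QCoh.toAbFunctor X).map φ) r x) := rfl

theorem HHlin_apply {F G : X.Modules} (n : ℕ) (φ : F ⟶ G) (x : Coh.HH X F n) :
    Canon.HHlin k φ n x = Sheaf.H.map ((QCoh.toAbFunctor X).map φ) n x := rfl

theorem HHlin_smul {F G : X.Modules} (n : ℕ) (a : k) (φ : F ⟶ G) (x : Coh.HH X F n) :
    Canon.HHlin k (a • φ) n x = a • Canon.HHlin k φ n x := by
  rw [show a • φ = φ ≫ (a • 𝟙 G) from by rw [Linear.comp_smul, Category.comp_id], DualPair.smul_HH,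
    HHlin_apply, HHlin_apply, Functor.map_comp, Sheaf.H.map_comp_apply]

theorem HHlin_add {F G : X.Modules} (n : ℕ) (φ ψ : F ⟶ G) (x : Coh.HH X F n) :
    Canon.HHlin k (φ + ψ) n x = Canon.HHlin k φ n x + Canon.HHlin k ψ n x := by
  rw [HHlin_apply, HHlin_apply, HHlin_apply, Functor.map_add, Sheaf.H.map_add_apply]

theorem dualityMap_eq {r : ℕ} {t : Coh.HH X ω r →ₗ[k] k} {F : X.Modules} (φ : F ⟶ ω) (x : Coh.HH X F r) :
    Canon.dualityMap k X r ω t F φ x = t (Canon.HHlin k φ r x) := rfl

/-- Sections as morphisms out of the structure sheaf, linearly. -/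
def homH0 (M : X.Modules) : (Coh.structureModule X ⟶ M) ≃ₗ[k] Coh.HH X M 0 :=
  haveI : HasExt.{u} X.Modules := IsGrothendieckAbelian.hasExt _
  LinearEquiv.ofBijective
    { toFun := fun g => Canon.HHlin k g 0 oneH
      map_add' := fun g g' => HHlin_add 0 g g' oneH
      map_smul' := fun a g => HHlin_smul 0 a g oneH }
    (bijective_extH₀ M)

variable (hω : Canon.IsRDualOver k X 1 ω t)

/-- Serre duality as a linear equivalence. -/
def dualEquiv {F : X.Modules} (hF : Coh.IsQCoh F) : (F ⟶ ω) ≃ₗ[k] Module.Dual k (Coh.HH X F 1) :=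
  LinearEquiv.ofBijective
    { toFun := fun φ => Canon.dualityMap k X 1 ω t F φ
      map_add' := fun φ ψ => LinearMap.ext fun x => by
        rw [LinearMap.add_apply, dualityMap_eq, dualityMap_eq, dualityMap_eq, HHlin_add, map_add]
      map_smul' := fun a φ => LinearMap.ext fun x => by
        rw [RingHom.id_apply, LinearMap.smul_apply, dualityMap_eq, dualityMap_eq, HHlin_smul, map_smul] }
    (hω.2 F hF)

include hω

theorem finrank_hom {F : X.Modules} (hF : Coh.IsQCoh F) :
    Module.finrank k (F ⟶ ω) = Module.finrank k (Coh.HH X F 1) :=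
  (dualEquiv hω hF).finrank_eq.trans Subspace.dual_finrank_eq

theorem hom_eq_zero {F : X.Modules} (hF : Coh.IsQCoh F) (h : Subsingleton (Coh.HH X F 1)) (φ : F ⟶ ω) :
    φ = 0 :=
  (dualEquiv hω hF).injective (LinearMap.ext fun x => by
    rw [Subsingleton.elim x 0, map_zero, map_zero])

theorem subsingleton_H1_of_hom {F : X.Modules} (hF : Coh.IsQCoh F) (h : ∀ φ : F ⟶ ω, φ = 0) :
    Subsingleton (Coh.HH X F 1) := by
  refine subsingleton_of_forall_eq 0 fun x => forall_dual (K := k) x fun l => ?_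
  obtain ⟨φ, rfl⟩ := (dualEquiv hω hF).surjective l
  rw [h φ, map_zero, LinearMap.zero_apply]

theorem exists_hom_ne {F : X.Modules} (hF : Coh.IsQCoh F) {x : Coh.HH X F 1} (hx : x ≠ 0) :
    ∃ φ : F ⟶ ω, t (Canon.HHlin k φ 1 x) ≠ 0 := by
  by_contra hcon
  simp only [not_exists, not_not] at hcon
  refine hx (forall_dual (K := k) x fun l => ?_)
  obtain ⟨φ, rfl⟩ := (dualEquiv hω hF).surjective l
  exact hcon φ

theorem finrank_H0 : Module.finrank k (Coh.HH X ω 0) = Module.finrank k (Coh.HH X (Coh.structureModule X) 1) :=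
  (homH0 ω).symm.finrank_eq.trans (finrank_hom hω QCoh.isQCoh_structureModule)

omit hω

theorem smul_map_ten (P : X.Modules) {F G : X.Modules} (a : k) (φ : F ⟶ G) :
    (SheafHomX.ten P).map (a • φ) = a • (SheafHomX.ten P).map φ := by
  rw [KLin.smul_def, KLin.smul_def, Functor.map_comp, SheafHomX.ten_map_smulMod]

/-- Twisting the sections of `ω`. -/
theorem finrank_H0_twist (hω : Canon.IsRDualOver k X 1 ω t) {M P : X.Modules} (hM : Coh.IsQCoh M)
    (hP : PicF.IsInvertible P) (u : Coh.structureModule X ≅ (SheafHomX.ten P).obj M) :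
    Module.finrank k (Coh.HH X ((SheafHomX.ten P).obj ω) 0) = Module.finrank k (Coh.HH X M 1) := by
  haveI := H23.Chern.isEquivalence_ten hP
  haveI : (SheafHomX.ten P).IsEquivalence :=
    Functor.isEquivalence_of_iso ((KFlatLib.tensorBiFlipIso X).app P).symm
  rw [← (homH0 ((SheafHomX.ten P).obj ω)).finrank_eq, ← finrank_hom hω hM]
  let e : (M ⟶ ω) →ₗ[k] (Coh.structureModule X ⟶ (SheafHomX.ten P).obj ω) :=
    { toFun := fun φ => u.hom ≫ (SheafHomX.ten P).map φ
      map_add' := fun φ ψ => by rw [Functor.map_add, Preadditive.comp_add]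
      map_smul' := fun a φ => by rw [RingHom.id_apply, smul_map_ten, Linear.comp_smul] }
  refine (LinearEquiv.ofBijective e ⟨fun φ ψ h => (SheafHomX.ten P).map_injective ((cancel_epi u.hom).1 h),
    fun g => ?_⟩).finrank_eq.symm
  obtain ⟨φ, hφ⟩ := (SheafHomX.ten P).map_surjective (u.inv ≫ g)
  refine ⟨φ, ?_⟩
  show u.hom ≫ (SheafHomX.ten P).map φ = g
  rw [hφ, Iso.hom_inv_id_assoc]

end Groth.Agent.CurveDual
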