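import Groth.Agent.TFOneX.Basic
import Groth.Agent.GrLib8.SuppFlasque
import Groth.Agent.Alg6.AssDepth
import Groth.Agent.CurveDual.Dual
import Groth.Agent.H23.InvStalk
import Groth.Agent.DimOneAmple.Exists
import Groth.Agent.QCoh.Support

/-!
# Positive depth at the closed points of a curve
-/

set_option autoImplicit false
set_option linter.style.haveILetI false
set_option linter.unusedSectionVars false
set_option backward.isDefEq.respectTransparency false
set_option backward.isDefEq.respectTransparency.types false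
set_option maxHeartbeats 1000000

universe u

open CategoryTheory CategoryTheory.Limits AlgebraicGeometry TopologicalSpace Opposite

noncomputable section

namespace Groth.Agent.CurveDual

open Groth.Agent

variable {X : Scheme.{u}}

/-- Depth of the stalk of the structure module. -/
theorem depth_structure_eq [IsLocallyNoetherian X] (x : X) :
    LocCoh.depth (X.presheaf.stalk x) ((Coh.structureModule X).presheaf.stalk x) =
      LocCoh.depth (X.presheaf.stalk x) (X.presheaf.stalk x) := by
  obtain ⟨e⟩ := H23.InvStalk.exists_stalk_equiv (InvX.isInvertible_structureModule (X := X)) x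
  exact Hensel.depth_congr (R := X.presheaf.stalk x) e

/-- Closed points off the generic ones have local rings of positive dimension. -/
theorem one_le_dim_stalk {x : X} (hx : x ∉ genericPoints (X : Type u)) :
    (1 : WithBot ℕ∞) ≤ ringKrullDim (X.presheaf.stalk x) := by
  obtain ⟨η, hη, hηx⟩ := NormAmpleX.exists_generic_specializes x
  rw [ringKrullDim_stalk_eq_coheight]
  have hlt : x < η := lt_of_le_not_ge (Scheme.le_iff_specializes.2 hηx) fun h =>
    hx ((hηx.antisymm (Scheme.le_iff_specializes.1 h)).eq ▸ hη)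
  have h1 : (0 : ℕ∞) < Order.coheight x := (Order.coheight_pos).2 fun h => hlt.not_ge (h hlt.le)
  exact_mod_cast Order.one_le_iff_pos.2 h1

theorem notMem_gen [ConnectedSpace X] (hdim : topologicalKrullDim X = 1) [NoetherianSpace X] {x : X}
    (hx : IsClosed ({x} : Set X)) : x ∉ genericPoints (X : Type u) := fun hg => by
  have hC : ({x} : Set X) ∈ irreducibleComponents (X : Type u) := by
    have h : closure ({x} : Set X) ∈ irreducibleComponents (X : Type u) := hg
    rwa [hx.closure_eq] at h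
  -- the other components form a closed set
  have hfin := NoetherianSpace.finite_irreducibleComponents (α := X)
  have hopen : IsOpen ({x} : Set X) := by
    have he : ({x} : Set X) = (⋃₀ (irreducibleComponents (X : Type u) \ {{x}}))ᶜ := by
      ext y
      refine ⟨?_, fun hy => ?_⟩
      · rintro rfl ⟨D, ⟨hD, hne⟩, hyD⟩
        exact hne (Set.mem_singleton_iff.2 (hC.eq_of_ge hD.1 (Set.singleton_subset_iff.2 hyD)))
      · obtain ⟨η, hη, hηy⟩ := NormAmpleX.exists_generic_specializes y
        by_contra hne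
        refine hy ⟨closure {η}, ⟨hη, fun h => hne ?_⟩, hηy.mem_closed isClosed_closure (subset_closure rfl)⟩
        have hy' : y ∈ closure ({η} : Set X) := hηy.mem_closed isClosed_closure (subset_closure rfl)
        rwa [show closure ({η} : Set X) = {x} from h] at hy'
    rw [he, isOpen_compl_iff, Set.sUnion_eq_biUnion]
    exact (hfin.subset Set.diff_subset).isClosed_biUnion fun D hD => isClosed_of_mem_irreducibleComponents D hD.1
  have huniv : ({x} : Set X) = Set.univ := IsClopen.eq_univ ⟨hx, hopen⟩ (Set.singleton_nonempty x)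
  haveI : Subsingleton X := ⟨fun a b => by
    have ha : a ∈ ({x} : Set X) := huniv ▸ trivial
    have hb : b ∈ ({x} : Set X) := huniv ▸ trivial
    exact (Set.mem_singleton_iff.1 ha).trans (Set.mem_singleton_iff.1 hb).symm⟩
  have h0 : topologicalKrullDim X ≤ 0 := topologicalKrullDim_zero_of_discreteTopology X
  rw [hdim] at h0
  exact absurd h0 (by decide)

theorem one_le_depth_of_CM (hCM : ∀ x : X, LocCoh.IsCohenMacaulayLocalRing (X.presheaf.stalk x))
    [IsLocallyNoetherian X] {x : X} (hx : x ∉ genericPoints (X : Type u)) :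
    (1 : ℕ∞) ≤ LocCoh.depth (X.presheaf.stalk x) ((Coh.structureModule X).presheaf.stalk x) := by
  rw [depth_structure_eq]
  haveI := hCM x
  have h := one_le_dim_stalk hx
  rw [← Module.supportDim_self_eq_ringKrullDim, LocCoh.IsCohenMacaulayLocalRing.supportDim_eq_depth] at h
  exact_mod_cast h

/-- With one-dimensional global functions the closed points have positive depth. -/
theorem one_le_depth_of_h0 (k : Type u) [Field k] [X.Over (Spec (CommRingCat.of k))] [IsNoetherian X]
    (hdim : topologicalKrullDim X = 1)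
    (h0 : Module.finrank k (Coh.HH X (Coh.structureModule X) 0) = 1) {x : X} (hx : IsClosed ({x} : Set X))
    (hgen : x ∉ genericPoints (X : Type u)) :
    (1 : ℕ∞) ≤ LocCoh.depth (X.presheaf.stalk x) ((Coh.structureModule X).presheaf.stalk x) := by
  rw [depth_structure_eq, Alg6.one_le_depth_iff]
  intro hass
  obtain ⟨-, a, ha⟩ := isAssociatedPrime_iff.1 hass
  have hka : ∀ r : X.presheaf.stalk x, r ∈ IsLocalRing.maximalIdeal _ → r * a = 0 := fun r hr => by
    rw [ha, Submodule.mem_colon_singleton, Submodule.mem_bot] at hr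
    exact hr
  have ha0 : a ≠ 0 := by
    rintro rfl
    refine (IsLocalRing.maximalIdeal.isMaximal (X.presheaf.stalk x)).ne_top ?_
    rw [ha, Ideal.eq_top_iff_one, Submodule.mem_colon_singleton, smul_zero]
    exact zero_mem _
  obtain ⟨W, hxW, s, rfl⟩ := TopCat.Presheaf.exists_germ_eq X.presheaf a
  obtain ⟨V, hV, hxV, hVW⟩ := exists_isAffineOpen_mem_and_subset (X := X) (x := x) (U := W) hxW
  -- the support of the section
  let Z : Set X := {y | ∃ hy : y ∈ V, X.presheaf.germ W y (hVW hy) s ≠ 0}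
  have hzero : ∀ y ∈ V, y ⤳ x → y ≠ x → y ∉ Z := by
    rintro y - hyx hne ⟨hy, hs⟩
    obtain ⟨r, hr, hunit⟩ : ∃ r : X.presheaf.stalk x, r ∈ IsLocalRing.maximalIdeal _ ∧
        IsUnit (X.presheaf.stalkSpecializes hyx r) := by
      obtain ⟨U, hU, hxU, -⟩ := exists_isAffineOpen_mem_and_subset (X := X) (x := x) (U := ⊤) trivial
      have hyU : y ∈ U := hyx.mem_open U.isOpen hxU
      have hne' : ¬ x ⤳ y := fun h => hne (hyx.antisymm h).eq
      replace hne' : ¬ (hU.primeIdealOf ⟨x, hxU⟩).asIdeal ≤ (hU.primeIdealOf ⟨y, hyU⟩).asIdeal := fun h => by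
        have h' := ((PrimeSpectrum.le_iff_specializes _ _).1 h).map hU.fromSpec.continuous
        rw [IsAffineOpen.fromSpec_primeIdealOf, IsAffineOpen.fromSpec_primeIdealOf] at h'
        exact hne' h'
      obtain ⟨g, hg, hg'⟩ := SetLike.not_le_iff_exists.1 hne'
      refine ⟨X.presheaf.germ U x hxU g, ?_, ?_⟩
      · rw [IsLocalRing.mem_maximalIdeal, mem_nonunits_iff, ← Scheme.mem_basicOpen _ _ _ hxU]
        exact fun hb => ((QCoh.mem_basicOpen_iff_notMem hU hxU g).1 hb) hg
      · rw [TopCat.Presheaf.germ_stalkSpecializes_apply, ← Scheme.mem_basicOpen _ _ _ hyU]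
        exact (QCoh.mem_basicOpen_iff_notMem hU hyU g).2 hg'
    have h1 := congrArg (X.presheaf.stalkSpecializes hyx) (hka r hr)
    rw [map_mul, map_zero, TopCat.Presheaf.germ_stalkSpecializes_apply] at h1
    exact hs (hunit.mul_right_eq_zero.1 h1)
  have hZc : ∀ y ∈ V, y ∉ Z → ∃ N : X.Opens, y ∈ N ∧ ∀ z ∈ N, z ∉ Z := by
    intro y hy hyZ
    have h0' : X.presheaf.germ W y (hVW hy) s = X.presheaf.germ W y (hVW hy) 0 := by
      rw [map_zero]
      by_contra hne
      exact hyZ ⟨hy, hne⟩
    obtain ⟨N, hyN, i, j, he⟩ := TopCat.Presheaf.germ_eq X.presheaf y (hVW hy) (hVW hy) _ _ h0'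
    refine ⟨N, hyN, fun z hz hzZ => hzZ.2 ?_⟩
    have h1 := congrArg (X.presheaf.germ N z hz) he
    rw [TopCat.Presheaf.germ_res_apply, TopCat.Presheaf.germ_res_apply, map_zero] at h1
    exact h1
  -- remove the other points of the support
  let Cx : Set X := ⋃₀ {D ∈ irreducibleComponents (X : Type u) | x ∉ D}
  have hCx : IsClosed Cx := by
    show IsClosed (⋃₀ _)
    rw [Set.sUnion_eq_biUnion]
    exact (NoetherianSpace.finite_irreducibleComponents.subset fun D hD => hD.1).isClosed_biUnion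
      fun D hD => isClosed_of_mem_irreducibleComponents D hD.1
  let V₁ : X.Opens := V ⊓ ⟨Cxᶜ, hCx.isOpen_compl⟩
  have hxV₁ : x ∈ V₁ := ⟨hxV, fun ⟨D, hD, hxD⟩ => hD.2 hxD⟩
  have hgenZ : ∀ η ∈ genericPoints (X : Type u), η ∈ V₁ → η ∉ Z := by
    intro η hη hηV
    refine hzero η hηV.1 ?_ (fun h => hgen (h ▸ hη))
    by_contra hsp
    exact hηV.2 ⟨closure {η}, ⟨hη, fun h => hsp (specializes_iff_mem_closure.2 h)⟩, subset_closure rfl⟩
  have hfinZ : ((Z ∩ (V₁ : Set X)) \ {x}).Finite ∧ IsClosed ((Z \ {x}) ∪ (V₁ : Set X)ᶜ) := by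
    have hc : IsClosed (Z ∪ (V₁ : Set X)ᶜ) := by
      rw [← isOpen_compl_iff, isOpen_iff_forall_mem_open]
      intro y hy
      simp only [Set.compl_union, compl_compl, Set.mem_inter_iff, Set.mem_compl_iff] at hy
      obtain ⟨N, hyN, hN⟩ := hZc y hy.2.1 hy.1
      refine ⟨(N : Set X) ∩ V₁, fun z hz => ?_, N.isOpen.inter V₁.isOpen, hyN, hy.2⟩
      simp only [Set.compl_union, compl_compl, Set.mem_inter_iff, Set.mem_compl_iff]
      exact ⟨hN z hz.1, hz.2⟩
    -- closed points only
    have hcl : ∀ z ∈ Z ∩ (V₁ : Set X), IsClosed ({z} : Set X) := fun z hz =>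
      TFOneX.isClosed_singleton_of_notMem hdim.le fun hg => hgenZ z hg hz.2 hz.1
    have hfin : (Z ∩ (V₁ : Set X)).Finite := by
      refine (DimOneAmple.finite_of_isClosed hdim.le isClosed_closure fun η hη hg => ?_).subset subset_closure
      by_cases hηV : η ∈ V₁
      · obtain ⟨N, hηN, hN⟩ := hZc η hηV.1 (hgenZ η hg hηV)
        obtain ⟨z, hzN, hz⟩ := mem_closure_iff.1 hη (N : Set X) N.isOpen hηN
        exact hN z hzN hz.1
      · let O : Set X := (⋃₀ (irreducibleComponents (X : Type u) \ {closure {η}}))ᶜ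
        have hO : IsOpen O := by
          show IsOpen (⋃₀ _)ᶜ
          rw [isOpen_compl_iff, Set.sUnion_eq_biUnion]
          exact (NoetherianSpace.finite_irreducibleComponents.subset fun D hD => hD.1).isClosed_biUnion
            fun D hD => isClosed_of_mem_irreducibleComponents D hD.1
        have hηO : η ∈ O := fun ⟨D, ⟨hD, hne⟩, hηD⟩ => hne (Set.mem_singleton_iff.2
          (hg.eq_of_le hD.1 ((isClosed_of_mem_irreducibleComponents D hD).closure_subset_iff.2
            (Set.singleton_subset_iff.2 hηD))).symm)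
        obtain ⟨z, hzO, hz⟩ := mem_closure_iff.1 hη O hO hηO
        obtain ⟨θ, hθ, hθz⟩ := NormAmpleX.exists_generic_specializes z
        by_cases he : closure ({θ} : Set X) = closure {η}
        · have hzc : z ∈ closure ({η} : Set X) := he ▸ specializes_iff_mem_closure.1 hθz
          exact hηV ((specializes_iff_mem_closure.2 hzc).mem_open V₁.isOpen hz.2)
        · exact hzO ⟨_, ⟨hθ, he⟩, specializes_iff_mem_closure.1 hθz⟩
    refine ⟨hfin.subset fun z hz => hz.1, ?_⟩
    have he : (Z \ {x}) ∪ (V₁ : Set X)ᶜ = ((Z ∩ (V₁ : Set X)) \ {x}) ∪ (V₁ : Set X)ᶜ := by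
      ext z
      by_cases hz : z ∈ V₁ <;> simp [hz]
    rw [he]
    refine IsClosed.union ?_ V₁.isOpen.isClosed_compl
    rw [← Set.biUnion_of_singleton ((Z ∩ (V₁ : Set X)) \ {x})]
    exact (hfin.subset fun z hz => hz.1).isClosed_biUnion fun z hz => hcl z hz.1
  let V₂ : X.Opens := ⟨((Z \ {x}) ∪ (V₁ : Set X)ᶜ)ᶜ, hfinZ.2.isOpen_compl⟩
  have hV₂W : V₂ ≤ W := fun z hz => hVW ((not_not.1 fun h => hz (Or.inr h) : z ∈ V₁)).1
  have hxV₂ : x ∈ V₂ := fun h => h.elim (fun h => h.2 rfl) fun h => h hxV₁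
  let U : X.Opens := ⟨({x} : Set X)ᶜ, hx.isOpen_compl⟩
  let s₂ : Γ(X, V₂) := X.presheaf.map (homOfLE hV₂W).op s
  have hUV : X.presheaf.map (homOfLE (inf_le_right : U ⊓ V₂ ≤ V₂)).op s₂ = 0 := by
    refine TopCat.Presheaf.section_ext X.sheaf _ _ _ fun z hz => ?_
    show X.presheaf.germ _ z hz _ = X.presheaf.germ _ z hz 0
    rw [TopCat.Presheaf.germ_res_apply, map_zero]
    show X.presheaf.germ V₂ z hz.2 s₂ = 0
    rw [TopCat.Presheaf.germ_res_apply]
    by_contra hne
    have hzV : z ∈ V := ((not_not.1 fun h => hz.2 (Or.inr h) : z ∈ V₁)).1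
    exact hz.2 (Or.inl ⟨⟨hzV, hne⟩, hz.1⟩)
  obtain ⟨t, htU, htV⟩ := GrLib8.SuppFlasque.exists_glue_zero
    (X := X.toPresheafedSpace.carrier) (Coh.toAb (Coh.structureModule X)) U V₂ s₂ hUV
  have hsup : U ⊔ V₂ = ⊤ := top_le_iff.1 fun z _ => by
    by_cases hz : z = x
    · exact Or.inr (hz ▸ hxV₂)
    · exact Or.inl hz
  let tt : Γ(X, ⊤) := X.presheaf.map (eqToHom hsup.symm).op t
  have htx : X.presheaf.germ ⊤ x trivial tt = X.presheaf.germ W x hxW s := by
    show X.presheaf.germ ⊤ x trivial (X.presheaf.map (eqToHom hsup.symm).op t) = _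
    rw [TopCat.Presheaf.germ_res_apply,
      ← TopCat.Presheaf.germ_res_apply X.presheaf (homOfLE (le_sup_right : V₂ ≤ U ⊔ V₂)) x hxV₂ t]
    refine (congrArg (X.presheaf.germ V₂ x hxV₂) htV).trans ?_
    exact TopCat.Presheaf.germ_res_apply _ _ _ _ _
  obtain ⟨η, hη, hηx⟩ := NormAmpleX.exists_generic_specializes x
  have hηU : η ∈ U := fun h => hgen ((Set.mem_singleton_iff.1 h) ▸ hη)
  have htη : X.presheaf.germ ⊤ η trivial tt = 0 := by
    show X.presheaf.germ ⊤ η trivial (X.presheaf.map (eqToHom hsup.symm).op t) = _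
    rw [TopCat.Presheaf.germ_res_apply,
      ← TopCat.Presheaf.germ_res_apply X.presheaf (homOfLE (le_sup_left : U ≤ U ⊔ V₂)) η hηU t]
    exact (congrArg (X.presheaf.germ U η hηU) htU).trans (map_zero _)
  -- functions are constants
  let φ : Coh.structureModule X ⟶ Coh.structureModule X :=
    InvX.ofSect (M := Coh.structureModule X) (tt : Γ(X, ⊤))
  have hone : (𝟙 (Coh.structureModule X)) ≠ 0 := fun h => by
    have h1 : (1 : Γ(X, ⊤)) = 0 := congrArg InvX.one h
    exact one_ne_zero (α := X.presheaf.stalk x) (by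
      have h2 := congrArg (X.presheaf.germ ⊤ x trivial) h1
      rwa [map_one, map_zero] at h2)
  obtain ⟨c, hc⟩ := (finrank_eq_one_iff_of_nonzero' _ hone).1 ((homH0 (k := k) (Coh.structureModule X)).finrank_eq.trans h0) φ
  have hts : tt = X.presheaf.map (homOfLE (le_top : (⊤ : X.Opens) ≤ ⊤)).op
      (Coh.toGlobal (X ↘ Spec (CommRingCat.of k)) c) * 1 := by
    refine (InvX.one_ofSect (M := Coh.structureModule X) (tt : Γ(X, ⊤))).symm.trans ?_
    show InvX.one φ = _
    rw [← hc]
    exact KLin.smul_app_apply c (𝟙 (Coh.structureModule X)) ⊤ (1 : Γ(X, ⊤))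
  by_cases hc0 : c = 0
  · refine ha0 (htx.symm.trans ?_)
    rw [hts, hc0, map_zero, map_zero, zero_mul, map_zero]
  · have hu : IsUnit tt := by
      rw [hts, mul_one]
      exact ((IsUnit.mk0 c hc0).map _).map _
    have hu' := hu.map (X.presheaf.germ ⊤ η trivial).hom
    rw [htη] at hu'
    exact not_isUnit_zero hu'

end Groth.Agent.CurveDual
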