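import Groth.Agent.CurveDual.Dual
import Groth.Agent.CurveDual.Coherent
import Groth.Agent.Lib.DegComp
import Groth.Agent.Lib.NegVanAmple
import Groth.Agent.AmpleVan.Uniform
import Groth.Agent.DimOneAmple.Exists
import Groth.Agent.Alg6.AssDepth
import Groth.Agent.NefH1.Field

/-!
# Euler characteristic of the dualizing sheaf of a curve
-/

set_option autoImplicit false
set_option linter.style.haveILetI false
set_option linter.unusedSectionVars false
set_option backward.isDefEq.respectTransparency false
set_option backward.isDefEq.respectTransparency.types false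
set_option maxHeartbeats 1000000
set_option synthInstance.maxHeartbeats 200000

universe u

open CategoryTheory CategoryTheory.Limits AlgebraicGeometry TopologicalSpace Opposite

noncomputable section

namespace Groth.Agent.CurveDual

open Groth.Agent

variable {k : Type u} [Field k] {X : Scheme.{u}} [X.Over (Spec (CommRingCat.of k))]
  [IsProper (X ↘ Spec (CommRingCat.of k))]

theorem length_stalk_twist {A F : X.Modules} (hA : PicF.IsInvertible A) (m : ℕ) (ξ : X) :
    Module.length (X.presheaf.stalk ξ) ((CohB1.tensorMod F (CohB1.tensorPow A m)).presheaf.stalk ξ) =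
      Module.length (X.presheaf.stalk ξ) (F.presheaf.stalk ξ) := by
  obtain ⟨e⟩ := H23.InvStalk.exists_stalk_equiv_pow hA ξ m
  exact LinearEquiv.length_eq ((KFlatLib.stalkTensorIso ξ F (CohB1.tensorPow A m)).toLinearEquiv.symm.trans
    ((TensorProduct.congr (LinearEquiv.refl _ _) e).trans (TensorProduct.rid _ _)))

/-- The Euler characteristic of powers is affine linear. -/
theorem euler_affine (hdim : topologicalKrullDim X ≤ 1) {A F : X.Modules} (hA : PicF.IsInvertible A)
    (hF : Coh.IsCoh F) :
    ∃ c : ℤ, ∀ n : ℕ, Curv2.euler k X (CohB1.tensorMod F (CohB1.tensorPow A n)) = Curv2.euler k X F + n * c := by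
  haveI := CurveCohLib.isNoetherian_of_proper (k := k) (X := X)
  let G : ℕ → X.Modules := fun n => CohB1.tensorMod F (CohB1.tensorPow A n)
  have hG : ∀ n, Coh.IsCoh (G n) := fun n =>
    ParShLib.isCoh_tensorMod hF (CurveDeg.isCoh_of_isInvertible (H23.PicMul.isInvertible_tensorPow hA n))
  have h0 : Curv2.euler k X (G 0) = Curv2.euler k X F :=
    CurveCohLib.euler_congr (k := k) (H23.PicMul.unit F).some
  have hs : ∀ M : X.Modules, topologicalKrullDim ↥(CohB1.support M) ≤ 1 := fun M =>
    (Topology.IsEmbedding.subtypeVal.isInducing.topologicalKrullDim_le).trans hdim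
  let Δ : ℕ → ℤ := fun n => Curv2.euler k X (G (n + 1)) - Curv2.euler k X (G n)
  have hstep : ∀ n, Δ n = Δ 0 := fun n => by
    have key : ∀ m, Δ m = Curv2.euler k X ((DCoh.tensorBi.obj A).obj (G m)) - ((1 : ℕ) : ℤ) * Curv2.euler k X (G m) := by
      intro m
      obtain ⟨w⟩ : Nonempty (G (m + 1) ≅ (DCoh.tensorBi.obj A).obj (G m)) := by
        letI := H23.PicMul.clMonoid X
        refine H23.PicMul.cl_eq_iff.1 ?_
        show PicF.cl (CohB1.tensorMod F (CohB1.tensorPow A (m + 1))) =
          PicF.cl (CohB1.tensorMod A (CohB1.tensorMod F (CohB1.tensorPow A m)))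
        rw [H23.PicMul.cl_tensor, H23.PicMul.cl_tensor, H23.PicMul.cl_tensor, H23.PicMul.cl_tensorPow,
          H23.PicMul.cl_tensorPow, pow_succ]
        ac_rfl
      simp only [Δ, CurveCohLib.euler_congr (k := k) w, Nat.cast_one, one_mul]
    rw [key, key, DegComp.euler_sum k (InvEnd.isFinLocFreeOfRank_one hA) (hG n) (hs _),
      DegComp.euler_sum k (InvEnd.isFinLocFreeOfRank_one hA) (hG 0) (hs _)]
    refine finsum_congr fun ξ => ?_
    rw [length_stalk_twist hA, length_stalk_twist hA]
  refine ⟨Δ 0, fun n => ?_⟩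
  induction n with
  | zero => simpa using h0
  | succ n ih =>
    have := hstep n
    simp only [Δ] at this
    show Curv2.euler k X (G (n + 1)) = _
    push_cast
    linarith

/-- A ring with positive dimension and Cohen-Macaulay has positive depth. -/
theorem one_le_depth_of_cm {R : Type u} [CommRing R] [LocCoh.IsCohenMacaulayLocalRing R]
    (h : (1 : WithBot ℕ∞) ≤ Module.supportDim R R) : (1 : ℕ∞) ≤ LocCoh.depth R R := by
  rw [LocCoh.IsCohenMacaulayLocalRing.supportDim_eq_depth] at h
  exact_mod_cast h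

variable (hdim : topologicalKrullDim X ≤ 1)
  (hdep : ∀ x : X, IsClosed ({x} : Set X) →
    (1 : ℕ∞) ≤ LocCoh.depth (X.presheaf.stalk x) ((Coh.structureModule X).presheaf.stalk x))
  {ω : X.Modules} {t : Coh.HH X ω 1 →ₗ[k] k} (hω : Canon.IsRDualOver k X 1 ω t) (hωc : Coh.IsCoh ω)

include hdim hdep hω hωc in
/-- `χ(O) = -χ(ω)`. -/
theorem euler_structure : Curv2.euler k X (Coh.structureModule X) = -Curv2.euler k X ω := by
  haveI := CurveCohLib.isNoetherian_of_proper (k := k) (X := X)
  haveI : X.IsSeparated := ⟨by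
    rw [← terminal.comp_from (X ↘ Spec (CommRingCat.of k))]
    infer_instance⟩
  obtain ⟨A, hA⟩ := DimOneAmple.exists_isAmple (X := X) hdim
  obtain ⟨B, hB, hAB⟩ := H23.PicInv.exists_inverse hA.1
  obtain ⟨n₁, h1⟩ := NegVanAmple.exists_vanishing (X ↘ Spec (CommRingCat.of k)) hA (M := B) hAB
    (QCoh.isCoh_structureModule' (X := X)) 1 hdep 0 zero_lt_one
  obtain ⟨n₂, h2⟩ := AmpleVan.exists_vanishing (A := k) hA hωc
  obtain ⟨a, ha⟩ := euler_affine (k := k) hdim hA.1 hωc
  obtain ⟨b, hb⟩ := euler_affine (k := k) hdim hB (QCoh.isCoh_structureModule' (X := X))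
  have key : ∀ n, n₁ ≤ n → n₂ ≤ n →
      Curv2.euler k X ω + n * a + (Curv2.euler k X (Coh.structureModule X) + n * b) = 0 := fun n hn1 hn2 => by
    let P := CohB1.tensorPow A n
    let M := CohB1.tensorMod (Coh.structureModule X) (CohB1.tensorPow B n)
    have hMc : Coh.IsCoh M := ParShLib.isCoh_tensorMod QCoh.isCoh_structureModule'
      (CurveDeg.isCoh_of_isInvertible (H23.PicMul.isInvertible_tensorPow hB n))
    obtain ⟨w⟩ : Nonempty ((SheafHomX.ten P).obj M ≅ Coh.structureModule X) := by
      letI := H23.PicMul.clMonoid X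
      refine H23.PicMul.cl_eq_iff.1 ?_
      show PicF.cl (CohB1.tensorMod M P) = 1
      have h1' : PicF.cl A * PicF.cl B = 1 := H23.PicMul.cl_eq_iff.2 hAB
      rw [H23.PicMul.cl_tensor, H23.PicMul.cl_tensor, H23.PicMul.cl_tensorPow, H23.PicMul.cl_tensorPow,
        ← H23.PicMul.one_def, one_mul, ← mul_pow, mul_comm, h1', one_pow]
    have e := finrank_H0_twist hω (M := M) hMc.1 (H23.PicMul.isInvertible_tensorPow hA.1 n) w.symm
    have hωn : Coh.IsCoh (CohB1.tensorMod ω P) :=
      ParShLib.isCoh_tensorMod hωc (CurveDeg.isCoh_of_isInvertible (H23.PicMul.isInvertible_tensorPow hA.1 n))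
    rw [← ha n, ← hb n, NefH1.euler_eq k hdim hωn.1, NefH1.euler_eq k hdim hMc.1]
    haveI := h1 n hn1
    haveI := h2 n hn2 0
    rw [Module.finrank_zero_of_subsingleton (R := k) (M := Coh.HH X M 0),
      Module.finrank_zero_of_subsingleton (R := k) (M := Coh.HH X (CohB1.tensorMod ω P) (0 + 1))]
    change (Module.finrank k (Coh.HH X (CohB1.tensorMod ω P) 0)) = _ at e
    rw [e]
    simp
  have e1 := key (n₁ + n₂) (by omega) (by omega)
  have e2 := key (n₁ + n₂ + 1) (by omega) (by omega)
  push_cast at e1 e2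
  linear_combination ((n₁ + n₂ : ℤ) + 1) * e1 - (n₁ + n₂ : ℤ) * e2

include hdim hdep hω hωc in
/-- `h¹(ω) = h⁰(O)`. -/
theorem finrank_H1 : Module.finrank k (Coh.HH X ω 1) = Module.finrank k (Coh.HH X (Coh.structureModule X) 0) := by
  have h := euler_structure hdim hdep hω hωc
  rw [NefH1.euler_eq k hdim QCoh.isQCoh_structureModule, NefH1.euler_eq k hdim hωc.1, finrank_H0 hω] at h
  omega

include hdim hdep hω hωc in
/-- Endomorphisms of the dualizing sheaf. -/
theorem finrank_end : Module.finrank k (ω ⟶ ω) = Module.finrank k (Coh.HH X (Coh.structureModule X) 0) :=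
  (finrank_hom hω hωc.1).trans (finrank_H1 hdim hdep hω hωc)

end Groth.Agent.CurveDual
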