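import Groth.Agent.KFlatLib.Scheme.SecPoint
import Groth.Agent.TautSec.Sect
import Groth.Agent.AmpleX.FiniteSet
import Groth.Agent.InvX.GenLocus
import Groth.Agent.Lib.RegEpiGen
import Groth.Agent.Lib.AVAmple
import Groth.Agent.AmpleVan.Tower
import Groth.Agent.TFOneX.Basic

/-!
# Duality on the spectrum of a field
-/

set_option autoImplicit false
set_option linter.style.haveILetI false
set_option linter.unusedSectionVars false
set_option backward.isDefEq.respectTransparency false
set_option backward.isDefEq.respectTransparency.types false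
set_option maxHeartbeats 1000000

universe u

open CategoryTheory CategoryTheory.Limits CategoryTheory.Pretriangulated AlgebraicGeometry TopologicalSpace Opposite

attribute [local instance] HasDerivedCategory.standard

noncomputable section

namespace Groth.Agent.CurveDual

open Groth.Agent KFlatLib

variable {k : Type u} [Field k]

local notation "S" => Spec (CommRingCat.of k)
local notation "O" => Coh.structureModule (Spec (CommRingCat.of k))

theorem eq_top_of_mem {U : (S).Opens} {y : ↥(S)} (h : y ∈ U) : U = ⊤ :=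
  top_le_iff.1 fun x _ => by rwa [Subsingleton.elim x y]

/-- The structure sheaf of a field is projective. -/
instance projective_O : Projective (O) where
  factors {E M} g e he := by
    have hs : ∀ y : ↥(S), ∃ t : Γ(E, ⊤), e.app ⊤ t = InvX.one g := fun y => by
      obtain ⟨c, hc⟩ := TFOneX.surjective_sm e y (M.presheaf.germ ⊤ y trivial (InvX.one g))
      obtain ⟨V, hy, t, rfl⟩ := TopCat.Presheaf.exists_germ_eq E.presheaf c
      rw [TFOneX.sm, DerSch.stalkFunctor_map_germ] at hc
      obtain ⟨W, hW, i, j, heq⟩ := TopCat.Presheaf.germ_eq M.presheaf (V := (⊤ : (S).Opens)) y hy trivial _ _ hc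
      obtain rfl := eq_top_of_mem hW
      obtain rfl := eq_top_of_mem hy
      refine ⟨t, ?_⟩
      rw [Subsingleton.elim i (𝟙 _), Subsingleton.elim j (𝟙 _)] at heq
      simpa using heq
    obtain ⟨t, ht⟩ := hs default
    refine ⟨InvX.ofSect t, ?_⟩
    rw [← AVAmple.ofSect_one (InvX.ofSect t ≫ e), ← AVAmple.ofSect_one g, AmpleVan.one_comp,
      InvX.one_ofSect, ht]

/-- Morphisms to `O` from a quasi-coherent module are detected by the sections. -/
theorem hom_O_ext {V : (S).Modules} (hV : Coh.IsQCoh V) {φ ψ : V ⟶ O}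
    (h : ∀ g : O ⟶ V, g ≫ φ = g ≫ ψ) : φ = ψ :=
  FComplLib.hom_ext_top hV QCoh.isQCoh_structureModule φ ψ fun x => by
    rw [← InvX.one_ofSect x, ← AmpleVan.one_comp, ← AmpleVan.one_comp, h]

/-- Every functional on the sections comes from a morphism. -/
theorem exists_hom_O {V : (S).Modules} (hV : Coh.IsQCoh V) (l : (O ⟶ V) → (O ⟶ O))
    (ha : ∀ g g', l (g + g') = l g + l g') (hs : ∀ (c : O ⟶ O) g, l (c ≫ g) = c ≫ l g) :
    ∃ φ : V ⟶ O, ∀ g, g ≫ φ = l g := by
  let L : Γ(V, ⊤) → Γ(O, ⊤) := fun x => InvX.one (l (InvX.ofSect x))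
  have hof : ∀ (r : Γ(S, ⊤)) (x : Γ(V, ⊤)),
      InvX.ofSect (M := O) r ≫ InvX.ofSect x = InvX.ofSect (r • x) := fun r x => by
    rw [← AVAmple.ofSect_one (InvX.ofSect (M := O) r ≫ InvX.ofSect x)]
    congr 1
    rw [AmpleVan.one_comp, InvX.one_ofSect]
    exact (InvX.app_eq_smul _ r).trans (by rw [InvX.one_ofSect, AModX.res_self])
  have hsmul : ∀ (r : Γ(S, ⊤)) (x : Γ(V, ⊤)), L (r • x) = r • L x := fun r x => by
    show InvX.one (l (InvX.ofSect (r • x))) = r • InvX.one (l (InvX.ofSect x))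
    rw [← hof, hs, AmpleVan.one_comp, InvX.one_ofSect]
    exact (InvX.app_eq_smul _ r).trans (by rw [AModX.res_self])
  have hadd : ∀ x y : Γ(V, ⊤), L (x + y) = L x + L y := fun x y => by
    show InvX.one (l (InvX.ofSect (x + y))) = InvX.one (l _) + InvX.one (l _)
    rw [show InvX.ofSect (x + y) = InvX.ofSect x + InvX.ofSect y from by
      rw [← AVAmple.ofSect_one (InvX.ofSect x + InvX.ofSect y), AmpleX.one_add, InvX.one_ofSect,
        InvX.one_ofSect], ha, AmpleX.one_add]
  let lin : ((moduleSpecΓFunctor (R := CommRingCat.of k)).obj V : Type u) →ₗ[CommRingCat.of k] ((moduleSpecΓFunctor (R := CommRingCat.of k)).obj (O) : Type u) :=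
    { toFun := fun x => (L x : Γ(O, ⊤))
      map_add' := fun x y => hadd x y
      map_smul' := fun r x => hsmul _ x }
  obtain ⟨φ, hφ⟩ := TautSec.exists_hom_of_linear (R := CommRingCat.of k) (P := O) hV (ModuleCat.homEquiv.symm lin)
  refine ⟨φ, fun g => ?_⟩
  rw [← AVAmple.ofSect_one (g ≫ φ), ← AVAmple.ofSect_one (l g), AmpleVan.one_comp]
  congr 1
  have h1 : φ.app ⊤ (InvX.one g) = L (InvX.one g) := congr(($hφ).hom (InvX.one g))
  rw [h1]
  show InvX.one (l (InvX.ofSect (InvX.one g))) = _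
  rw [AVAmple.ofSect_one]

/-- Sections of the degree zero cohomology. -/
abbrev ev (K : DCoh.D (S)) : (DCoh.inD (S) (O) ⟶ K) → ((O) ⟶ DCoh.HD K 0) := psiC 0 (O) K

theorem bijective_ev (K : DCoh.D (S)) : Function.Bijective (ev K) :=
  bijective_psiC_of_projective (P := (O)) 0 K

theorem ev_add (K : DCoh.D (S)) (a b : DCoh.inD (S) (O) ⟶ K) : ev K (a + b) = ev K a + ev K b := by
  simp [ev, psiC, Functor.map_add]

theorem ev_smul (K : DCoh.D (S)) (c : (O) ⟶ (O)) (a : DCoh.inD (S) (O) ⟶ K) :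
    ev K ((DerivedCategory.singleFunctor _ 0).map c ≫ a) = c ≫ ev K a :=
  psiC_single_map c a

theorem single_bijective : Function.Bijective
    (fun c : (O) ⟶ (O) => (DerivedCategory.singleFunctor (S).Modules 0).map c) :=
  ⟨fun _ _ h => (DerivedCategory.singleFunctor (S).Modules 0).map_injective h,
    fun y => (DerivedCategory.singleFunctor (S).Modules 0).map_surjective y⟩

theorem eq_zero_of_isLE_src {A : DCoh.D (S)} (n : ℤ) (hn : n < 0) [A.IsLE n]
    (ψ : A ⟶ DCoh.inD (S) (O)) : ψ = 0 :=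
  DerivedCategory.TStructure.t.zero_of_isLE_of_isGE ψ n 0 hn inferInstance inferInstance

/-- The pairing between an object in nonpositive degrees with quasi-coherent `H⁰` and `O`. -/
theorem bijective_pairing (K : DCoh.D (S)) [K.IsLE 0] (hK : Coh.IsQCoh (DCoh.HD K 0)) :
    (∀ ψ ψ' : K ⟶ DCoh.inD (S) (O), (∀ y : DCoh.inD (S) (O) ⟶ K, y ≫ ψ = y ≫ ψ') → ψ = ψ') ∧
    ∀ l : (DCoh.inD (S) (O) ⟶ K) → (DCoh.inD (S) (O) ⟶ DCoh.inD (S) (O)),
      (∀ y y', l (y + y') = l y + l y') →
      (∀ (c : (O) ⟶ (O)) y, l ((DerivedCategory.singleFunctor _ 0).map c ≫ y) =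
        (DerivedCategory.singleFunctor _ 0).map c ≫ l y) →
      ∃ ψ : K ⟶ DCoh.inD (S) (O), ∀ y, y ≫ ψ = l y := by
  obtain ⟨A, B, hA, hB, a, b, d, hT⟩ :=
    DerivedCategory.TStructure.t.exists_triangle K (-1) 0 (by omega)
  haveI hA' : A.IsLE (-1) := ⟨hA⟩
  haveI hB' : B.IsGE 0 := ⟨hB⟩
  let H := DerivedCategory.homologyFunctor (S).Modules
  haveI : Mono ((H 0).map b) :=
    (DerivedCategory.HomologySequence.mono_homologyMap_mor₂_iff _ hT 0).2
      ((DerivedCategory.isZero_of_isLE A (-1) 0 (by omega)).eq_of_src _ _)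
  haveI : Epi ((H 0).map b) :=
    (DerivedCategory.HomologySequence.epi_homologyMap_mor₂_iff _ hT 0 1 (by omega)).2
      ((DerivedCategory.isZero_of_isLE A (-1) 1 (by omega)).eq_of_tgt _ _)
  haveI : IsIso ((H 0).map b) := isIso_of_mono_of_epi _
  haveI : B.IsLE 0 := (DerivedCategory.isLE_iff _ _).2 fun i hi =>
    (DerivedCategory.HomologySequence.exact₃ _ hT i (i + 1) rfl).isZero_of_both_zeros
      ((DerivedCategory.isZero_of_isLE K 0 i hi).eq_of_src _ _)
      ((DerivedCategory.isZero_of_isLE A (-1) (i + 1) (by omega)).eq_of_tgt _ _)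
  obtain ⟨V, ⟨e⟩⟩ := DerivedCategory.exists_iso_singleFunctor_obj_of_isGE_of_isLE B 0
  let eV : DCoh.HD B 0 ≅ V := (H 0).mapIso e ≪≫ hSingle 0 V
  have hV : Coh.IsQCoh V := isQCoh_of_iso (asIso ((H 0).map b) ≪≫ eV) hK
  let g : K ⟶ DCoh.inD (S) V := b ≫ e.hom
  have hg : IsIso ((H 0).map g) := by
    rw [Functor.map_comp]; infer_instance
  -- sections of `K` and of `V`
  have hbij : Function.Bijective fun y : DCoh.inD (S) (O) ⟶ K => y ≫ g := by
    refine (Function.Bijective.of_comp_iff' (bijective_ev _) _).1 ?_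
    rw [show ev (DCoh.inD (S) V) ∘ (fun y => y ≫ g) = (fun z => z ≫ (H 0).map g) ∘ ev K from
      funext fun y => psiC_comp y g]
    exact (Iso.homToEquiv (asIso ((H 0).map g))).bijective.comp (bijective_ev K)
  have hfac : ∀ ψ : K ⟶ DCoh.inD (S) (O), ∃ φ : V ⟶ (O), ψ = g ≫ (DerivedCategory.singleFunctor _ 0).map φ :=
    fun ψ => by
    obtain ⟨z, hz⟩ := Triangle.yoneda_exact₂ _ hT ψ (eq_zero_of_isLE_src (A := A) (-1) (by omega) (a ≫ ψ))
    obtain ⟨φ, hφ⟩ := (DerivedCategory.singleFunctor (S).Modules 0).map_surjective (e.inv ≫ z)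
    exact ⟨φ, by rw [hφ, Category.assoc, Iso.hom_inv_id_assoc]; exact hz⟩
  refine ⟨fun ψ ψ' h => ?_, fun l ha hs => ?_⟩
  · obtain ⟨φ, rfl⟩ := hfac ψ
    obtain ⟨φ', rfl⟩ := hfac ψ'
    rw [hom_O_ext hV (φ := φ) (ψ := φ') fun w => ?_]
    obtain ⟨y, hy⟩ := hbij.2 ((DerivedCategory.singleFunctor _ 0).map w)
    apply (DerivedCategory.singleFunctor (S).Modules 0).map_injective
    rw [Functor.map_comp, Functor.map_comp, ← hy]
    exact (Category.assoc _ _ _).trans ((h y).trans (Category.assoc _ _ _).symm)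
  · let σ : ((O) ⟶ V) → (DCoh.inD (S) (O) ⟶ K) := fun w =>
      (Equiv.ofBijective _ hbij).symm ((DerivedCategory.singleFunctor _ 0).map w)
    have hσ : ∀ w, σ w ≫ g = (DerivedCategory.singleFunctor _ 0).map w := fun w =>
      (Equiv.ofBijective _ hbij).apply_symm_apply _
    let l' : ((O) ⟶ V) → ((O) ⟶ (O)) := fun w =>
      (Equiv.ofBijective _ (single_bijective (k := k))).symm (l (σ w))
    have hl' : ∀ w, (DerivedCategory.singleFunctor _ 0).map (l' w) = l (σ w) := fun w =>
      (Equiv.ofBijective _ (single_bijective (k := k))).apply_symm_apply _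
    have hσadd : ∀ w w', σ (w + w') = σ w + σ w' := fun w w' => hbij.1 (by
      show σ (w + w') ≫ g = (σ w + σ w') ≫ g
      rw [Preadditive.add_comp, hσ, hσ, hσ, Functor.map_add])
    have hσsmul : ∀ (c : (O) ⟶ (O)) w, σ (c ≫ w) = (DerivedCategory.singleFunctor _ 0).map c ≫ σ w :=
      fun c w => hbij.1 (by
        show σ (c ≫ w) ≫ g = ((DerivedCategory.singleFunctor _ 0).map c ≫ σ w) ≫ g
        rw [Category.assoc, hσ, hσ, Functor.map_comp])
    obtain ⟨φ, hφ⟩ := exists_hom_O hV l'
      (fun w w' => (single_bijective (k := k)).1 (by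
        show (DerivedCategory.singleFunctor _ 0).map (l' (w + w')) =
          (DerivedCategory.singleFunctor _ 0).map (l' w + l' w')
        rw [Functor.map_add, hl', hl', hl', hσadd, ha]))
      (fun c w => (single_bijective (k := k)).1 (by
        show (DerivedCategory.singleFunctor _ 0).map (l' (c ≫ w)) =
          (DerivedCategory.singleFunctor _ 0).map (c ≫ l' w)
        rw [Functor.map_comp, hl', hl', hσsmul, hs]))
    refine ⟨g ≫ (DerivedCategory.singleFunctor _ 0).map φ, fun y => ?_⟩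
    obtain ⟨w, hw⟩ := (DerivedCategory.singleFunctor (S).Modules 0).map_surjective (y ≫ g)
    have hy : σ w = y := hbij.1 ((hσ w).trans hw)
    rw [← Category.assoc, ← hw, ← Functor.map_comp, hφ, hl', hy]

end Groth.Agent.CurveDual
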