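import Groth.Agent.CurveDual.Euler
import Groth.Agent.CurveDual.Depth
import Groth.Agent.CurveBC.Geometry

/-!
# The dualizing module of a curve with one-dimensional global functions
-/

set_option autoImplicit false
set_option linter.style.haveILetI false
set_option linter.unusedSectionVars false
set_option backward.isDefEq.respectTransparency false
set_option backward.isDefEq.respectTransparency.types false
set_option maxHeartbeats 1000000
set_option synthInstance.maxHeartbeats 200000

universe u

open CategoryTheory CategoryTheory.Limits AlgebraicGeometry TopologicalSpace Opposite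

attribute [local instance] HasDerivedCategory.standard

noncomputable section

namespace Groth.Agent.CurveDual

open Groth.Agent

variable {k : Type u} [Field k] {X : Scheme.{u}} [X.Over (Spec (CommRingCat.of k))]
  [IsProper (X ↘ Spec (CommRingCat.of k))]

/-- Positive depth at the closed points. -/
theorem depth_of_h0 (hdim : topologicalKrullDim X = 1)
    (h0 : Module.finrank k (Coh.HH X (Coh.structureModule X) 0) = 1) (x : X) (hx : IsClosed ({x} : Set X)) :
    (1 : ℕ∞) ≤ LocCoh.depth (X.presheaf.stalk x) ((Coh.structureModule X).presheaf.stalk x) := by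
  haveI := CurveCohLib.isNoetherian_of_proper (k := k) (X := X)
  haveI := CurveBC.connectedSpace_of_h0 k X h0
  exact one_le_depth_of_h0 k hdim h0 hx (notMem_gen hdim hx)

variable {ω : X.Modules} {t : Coh.HH X ω 1 →ₗ[k] k} (hω : Canon.IsRDualOver k X 1 ω t) (hωc : Coh.IsCoh ω)
  (hdim : topologicalKrullDim X = 1) (h0 : Module.finrank k (Coh.HH X (Coh.structureModule X) 0) = 1)

include hω hωc hdim h0 in
theorem finrank_end_eq_one : Module.finrank k (ω ⟶ ω) = 1 :=
  (finrank_end hdim.le (depth_of_h0 hdim h0) hω hωc).trans h0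

include hω hωc hdim h0 in
theorem id_ne_zero : (𝟙 ω) ≠ 0 := fun h => by
  haveI : Subsingleton (ω ⟶ ω) := subsingleton_of_forall_eq 0 fun e => by
    rw [← Category.id_comp e, h, zero_comp]
  have h1 := finrank_end_eq_one hω hωc hdim h0
  rw [Module.finrank_zero_of_subsingleton (R := k) (M := (ω ⟶ ω))] at h1
  exact zero_ne_one h1

include hω hωc hdim h0 in
/-- The endomorphisms of `ω` are the scalars. -/
theorem exists_smul_id (e : ω ⟶ ω) : ∃ c : k, c • 𝟙 ω = e :=
  (finrank_eq_one_iff_of_nonzero' (K := k) (V := (ω ⟶ ω)) (𝟙 ω) (id_ne_zero hω hωc hdim h0)).1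
    (finrank_end_eq_one hω hωc hdim h0) e

include hω hωc hdim h0 in
/-- Nonzero endomorphisms of `ω` are isomorphisms. -/
theorem isIso_of_ne_zero (e : ω ⟶ ω) (he : e ≠ 0) : IsIso e := by
  obtain ⟨c, rfl⟩ := exists_smul_id hω hωc hdim h0 e
  have hc : c ≠ 0 := fun h => he (by rw [h, zero_smul])
  exact ⟨c⁻¹ • 𝟙 ω, by rw [Linear.smul_comp, Category.id_comp, smul_smul, mul_inv_cancel₀ hc, one_smul],
    by rw [Linear.smul_comp, Category.id_comp, smul_smul, inv_mul_cancel₀ hc, one_smul]⟩

/-- The dualizing module of a curve, packaged. -/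
theorem exists_dual [DCoh.HasRpush (X ↘ Spec (CommRingCat.of k))] (hdim : topologicalKrullDim X ≤ 1)
    (h : DCoh.RpushPreservesQCoh (X ↘ Spec (CommRingCat.of k))) [DCoh.HasShriek (X ↘ Spec (CommRingCat.of k)) h]
    (OY : DCoh.DQCoh (Spec (CommRingCat.of k)))
    (hOY : Nonempty (OY.obj ≅ DCoh.inD (Spec (CommRingCat.of k))
      (Coh.structureModule (Spec (CommRingCat.of k))))) :
    ∃ t, Canon.IsRDualOver k X 1 (DCoh.dualizingMod (X ↘ Spec (CommRingCat.of k)) h OY 1) t ∧
      Coh.IsCoh (DCoh.dualizingMod (X ↘ Spec (CommRingCat.of k)) h OY 1) := by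
  obtain ⟨t, ht⟩ := exists_isRDualOver' hdim h OY hOY
  exact ⟨t, ht, isCoh_dualizingMod (X ↘ Spec (CommRingCat.of k)) h OY hOY 1⟩

end Groth.Agent.CurveDual
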