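import Groth.Agent.CurveDual.Props
import Groth.Agent.S0009
import Groth.Agent.Lib.Euler
import Groth.Agent.PnCoh.PushNat
import Mathlib.AlgebraicGeometry.Morphisms.QuasiFinite

/-!
# The dualizing module of a curve has full support
-/

set_option autoImplicit false
set_option linter.style.haveILetI false
set_option linter.unusedSectionVars false
set_option backward.isDefEq.respectTransparency false
set_option backward.isDefEq.respectTransparency.types false
set_option maxHeartbeats 1000000
set_option synthInstance.maxHeartbeats 200000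

universe u

open CategoryTheory CategoryTheory.Limits AlgebraicGeometry TopologicalSpace Opposite

noncomputable section

namespace Groth.Agent.CurveDual

open Groth.Agent

variable {k : Type u} [Field k] {X : Scheme.{u}} [X.Over (Spec (CommRingCat.of k))]
  [IsProper (X ↘ Spec (CommRingCat.of k))]
  {ω : X.Modules} {t : Coh.HH X ω 1 →ₗ[k] k}

/-- `ω` has no nonzero maps from modules of finite support. -/
theorem hom_eq_zero_of_finite_support (hω : Canon.IsRDualOver k X 1 ω t) {G : X.Modules} (hG : Coh.IsCoh G)
    (hs : ∀ x ∈ CohB1.support G, IsClosed ({x} : Set X)) (φ : G ⟶ ω) : φ = 0 := by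
  haveI := CurveCohLib.isNoetherian_of_proper (k := k) (X := X)
  exact hom_eq_zero hω hG.1 ((Euler.good_of_support hG fun x hx => (hs x hx).closure_eq).1 1 le_rfl) φ

/-- A map into `ω` whose source and target supports meet in closed points vanishes. -/
theorem hom_eq_zero_of_meet (hω : Canon.IsRDualOver k X 1 ω t) (hωc : Coh.IsCoh ω) {G : X.Modules}
    (hG : Coh.IsCoh G) (hs : ∀ x ∈ CohB1.support G, x ∈ CohB1.support ω → IsClosed ({x} : Set X))
    (φ : G ⟶ ω) : φ = 0 := by
  haveI := CurveCohLib.isNoetherian_of_proper (k := k) (X := X)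
  let q := cokernel.π φ
  let l := kernel.lift q φ (cokernel.condition φ)
  haveI : Epi l := (ShortComplex.exact_iff_epi_kernel_lift (ShortComplex.mk φ q (cokernel.condition φ))).1
    (ShortComplex.exact_of_g_is_cokernel _ (cokernelIsCokernel φ))
  have hK : Coh.IsCoh (kernel q) := QCoh.isCoh_kernel hωc (QCoh.isCoh_cokernel hG.1 hωc φ) q
  have h := hom_eq_zero_of_finite_support hω hK (fun x hx =>
    hs x (TFOneX.support_subset_of_epi l hx) (TFOneX.support_subset_of_mono (kernel.ι q) hx)) (kernel.ι q)
  rw [← kernel.lift_ι q φ (cokernel.condition φ), h, comp_zero]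

/-- The support of `ω` is everything. -/
theorem support_eq_univ (hω : Canon.IsRDualOver k X 1 ω t) (hωc : Coh.IsCoh ω)
    (hdim : topologicalKrullDim X = 1) (h0 : Module.finrank k (Coh.HH X (Coh.structureModule X) 0) = 1) :
    CohB1.support ω = Set.univ := by
  classical
  haveI := CurveCohLib.isNoetherian_of_proper (k := k) (X := X)
  haveI := CurveBC.connectedSpace_of_h0 k X h0
  refine Set.eq_univ_iff_forall.2 fun x => ?_
  by_contra hx
  obtain ⟨η, hη, hηx⟩ := NormAmpleX.exists_generic_specializes x
  have hS := QCoh.isClosed_support_of_isFT hωc.1 hωc.2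
  have hηS : η ∉ CohB1.support ω := fun h => hx (hηx.mem_closed hS h)
  let C : Closeds X := ⟨closure {η}, isClosed_closure⟩
  let I := Scheme.IdealSheafData.vanishingIdeal C
  let Z := I.subscheme
  have hZ : Set.range I.subschemeι = closure ({η} : Set X) := by
    rw [Scheme.IdealSheafData.range_subschemeι, Scheme.IdealSheafData.coe_support_vanishingIdeal]
    rfl
  letI : Z.Over (Spec (CommRingCat.of k)) := ⟨I.subschemeι ≫ (X ↘ Spec (CommRingCat.of k))⟩
  haveI : IsNoetherian Z :=
    { __ := LocallyOfFiniteType.isLocallyNoetherian I.subschemeι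
      __ := QuasiCompact.compactSpace_of_compactSpace I.subschemeι }
  haveI : IsAffine Z := S0009.result Z fun J i hi hJ => by
    haveI := hi
    have hJc : Coh.IsCoh J := QCoh.isCoh_of_mono i QCoh.isCoh_structureModule' hJ
    have hG := QCoh.isCoh_push I.subschemeι hJc
    obtain ⟨e⟩ := PnCoh.exists_linearEquiv_push k I.subschemeι rfl hJ 1
    refine e.toEquiv.subsingleton_congr.2 (subsingleton_H1_of_hom hω hG.1 fun φ =>
      hom_eq_zero_of_meet hω hωc hG (fun z hz hzω => ?_) φ)
    have hzC : z ∈ closure ({η} : Set X) := hZ ▸ QCoh.support_push_subset I.subschemeι hJ hz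
    refine TFOneX.isClosed_singleton_of_notMem hdim.le fun hzg => hηS ?_
    rwa [NormAmpleX.eq_of_specializes_generic hzg (specializes_iff_mem_closure.2 hzC)]
  haveI : IsProper (Z ↘ Spec (CommRingCat.of k)) :=
    inferInstanceAs (IsProper (I.subschemeι ≫ (X ↘ Spec (CommRingCat.of k))))
  haveI : IsFinite (Z ↘ Spec (CommRingCat.of k)) :=
    (IsFinite.iff_isProper_and_isAffineHom).2 ⟨inferInstance, isAffineHom_of_isAffine _⟩
  haveI : DiscreteTopology Z := discreteTopology_iff_forall_isOpen.2 fun s => by
    have h := (Z ↘ Spec (CommRingCat.of k)).isDiscrete_preimage_singleton (IsLocalRing.closedPoint k)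
    have hu : (Z ↘ Spec (CommRingCat.of k)) ⁻¹' {IsLocalRing.closedPoint k} = Set.univ :=
      Set.eq_univ_of_forall fun z => Subsingleton.elim (α := PrimeSpectrum k) _ _
    rw [hu] at h
    haveI := isDiscrete_univ_iff.1 h
    exact isOpen_discrete s
  obtain ⟨z, hz⟩ : η ∈ Set.range I.subschemeι := hZ ▸ subset_closure rfl
  refine notMem_gen hdim ?_ hη
  rw [← hz, ← Set.image_singleton]
  exact I.subschemeι.isClosedEmbedding.isClosedMap _ (isClosed_discrete _)

end Groth.Agent.CurveDual
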