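import Groth.Agent.CurveDual.Unit
import Groth.Agent.KFlatLib.Scheme.RightAdjBound
import Groth.Agent.QCoh.RpushModel
import Groth.Agent.Snapper.DimVanish
import Groth.Agent.CurveCohLib.Proper
import Groth.Prelude.Def_DDual2

/-!
# The dualizing complex of a curve in degree `-1`
-/

set_option autoImplicit false
set_option linter.style.haveILetI false
set_option linter.unusedSectionVars false
set_option backward.isDefEq.respectTransparency false
set_option backward.isDefEq.respectTransparency.types false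
set_option maxHeartbeats 1000000

universe u

open CategoryTheory CategoryTheory.Limits CategoryTheory.Pretriangulated AlgebraicGeometry TopologicalSpace Opposite

attribute [local instance] HasDerivedCategory.standard

noncomputable section

namespace Groth.Agent.CurveDual

open Groth.Agent KFlatLib

variable {k : Type u} [Field k] {X : Scheme.{u}} (f : X ⟶ Spec (CommRingCat.of k)) [IsProper f]
  (hdim : topologicalKrullDim X ≤ 1)

include hdim in
theorem isZero_Rpush_two [HasInjectiveResolutions X.Modules] {M : X.Modules} (hM : Coh.IsQCoh M) (p : ℕ)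
    (hp : 2 ≤ p) : IsZero ((Coh.Rpush f p).obj M) := by
  haveI : IsLocallyNoetherian X := LocallyOfFiniteType.isLocallyNoetherian f
  haveI : CompactSpace X := QuasiCompact.compactSpace_of_compactSpace f
  haveI : IsNoetherian X := ⟨⟩
  have hR := QCoh.isQCoh_Rpush f hM p
  obtain ⟨l⟩ := QCoh.nonempty_sections_HH (f := f) (V := (⊤ : (Spec (CommRingCat.of k)).Opens)) hM
    (isAffineOpen_top _) p
  haveI : CompactSpace (f ⁻¹ᵁ (⊤ : (Spec (CommRingCat.of k)).Opens)).toScheme :=
    isCompact_iff_compactSpace.1 (f.isCompact_preimage isCompact_univ)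
  haveI : IsNoetherian (f ⁻¹ᵁ (⊤ : (Spec (CommRingCat.of k)).Opens)).toScheme := ⟨⟩
  haveI : (f ⁻¹ᵁ (⊤ : (Spec (CommRingCat.of k)).Opens)).toScheme.IsSeparated := ⟨by
    rw [← terminal.comp_from ((f ⁻¹ᵁ (⊤ : (Spec (CommRingCat.of k)).Opens)).ι ≫ f)]
    infer_instance⟩
  haveI := Snapper.subsingleton_HH_of_dim_le (d := 1)
    (((f ⁻¹ᵁ (⊤ : (Spec (CommRingCat.of k)).Opens)).ι.isEmbedding.isInducing.topologicalKrullDim_le).trans hdim)
    (QCoh.isQCoh_restrict (f ⁻¹ᵁ (⊤ : (Spec (CommRingCat.of k)).Opens)).ι hM) (show 1 < p by omega)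
  haveI : Subsingleton Γ((Coh.Rpush f p).obj M, ⊤) := l.toEquiv.subsingleton
  exact (IsZero.iff_id_eq_zero _).2 (FComplLib.hom_ext_top hR hR _ _ fun x => Subsingleton.elim _ _)

variable [DCoh.HasRpush f]

include hdim in
/-- Cohomological dimension one. -/
theorem isZero_hd_rpush {K : DCoh.D X} (hK : DCoh.IsQCohD K) (b : ℤ) [K.IsLE b] (i : ℤ) (hi : b + 2 ≤ i) :
    IsZero (DCoh.HD ((DCoh.Rpush f).obj K) i) := by
  haveI := hasInjectiveResolutions_modules (X := X)
  refine isZero_of_isZero_restrict _ fun y => ⟨⊤, trivial, ?_⟩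
  exact isZero_restrict_hd_rpush f hK b ⊤ 2
    (fun M hM p hp => Functor.map_isZero _ (isZero_Rpush_two f hdim hM p hp)) i (by exact_mod_cast hi)

variable (h : DCoh.RpushPreservesQCoh f) [DCoh.HasShriek f h]
  (OY : DCoh.DQCoh (Spec (CommRingCat.of k)))
  (eO : OY.obj ≅ DCoh.inD (Spec (CommRingCat.of k)) (Coh.structureModule (Spec (CommRingCat.of k))))

/-- Maps into the dualizing complex. -/
def adjEquiv (K : DCoh.DQCoh X) :
    (K.obj ⟶ DCoh.dualizingCx f h OY) ≃
      ((DCoh.Rpush f).obj K.obj ⟶ DCoh.inD (Spec (CommRingCat.of k)) (Coh.structureModule (Spec (CommRingCat.of k)))) :=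
  ((ObjectProperty.fullyFaithfulι _).homEquiv.symm.trans ((DCoh.shriekAdj f h).homEquiv K OY).symm).trans
    ((ObjectProperty.fullyFaithfulι _).homEquiv.trans (Iso.homCongr (Iso.refl _) eO))

theorem adjEquiv_comp {K L : DCoh.DQCoh X} (g : K.obj ⟶ L.obj) (x : L.obj ⟶ DCoh.dualizingCx f h OY) :
    adjEquiv f h OY eO K (g ≫ x) = (DCoh.Rpush f).map g ≫ adjEquiv f h OY eO L x := by
  have h1 := (DCoh.shriekAdj f h).homEquiv_naturality_left_symm (ObjectProperty.homMk g : K ⟶ L)
    (ObjectProperty.homMk x : L ⟶ (DCoh.shriek f h).obj OY)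
  have h2 := congrArg (fun z => z.hom ≫ eO.hom) h1
  simp only [adjEquiv, Equiv.trans_apply, Iso.homCongr_apply, Iso.refl_inv]
  erw [Category.id_comp, Category.id_comp]
  exact h2.trans (Category.assoc _ _ _)

theorem isQCohD_dualizingCx : DCoh.IsQCohD (DCoh.dualizingCx f h OY) := ((DCoh.shriek f h).obj OY).property

include hdim eO in
/-- The dualizing complex starts in degree `-1`. -/
theorem isGE_dualizingCx : (DCoh.dualizingCx f h OY).IsGE (-1) :=
  (DerivedCategory.isGE_iff _ _).2 fun i hi =>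
    isZero_hd_of_orth (isQCohD_dualizingCx f h OY) (-2) (fun A hA hle φ => by
      haveI := hle
      haveI : DerivedCategory.IsLE ((DCoh.Rpush f).obj A) (-1) :=
        (DerivedCategory.isLE_iff _ _).2 fun j hj => isZero_hd_rpush f hdim hA (-2) j (by omega)
      refine (adjEquiv f h OY eO ⟨A, hA⟩).injective ?_
      exact (eq_zero_of_isLE_src (-1) (by omega) _).trans (eq_zero_of_isLE_src (-1) (by omega) _).symm)
      i (by omega)

include hdim eO in
/-- The inclusion of the dualizing module. -/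
theorem exists_incl : ∃ ι : (DCoh.inD X (DCoh.dualizingMod f h OY 1))⟦(1 : ℤ)⟧ ⟶ DCoh.dualizingCx f h OY,
    ∀ F : X.Modules, Function.Bijective fun φ : F ⟶ DCoh.dualizingMod f h OY 1 =>
      ((DerivedCategory.singleFunctor X.Modules 0).map φ)⟦(1 : ℤ)⟧' ≫ ι := by
  let C := DCoh.dualizingCx f h OY
  haveI := isGE_dualizingCx f hdim h OY eO
  obtain ⟨A, B, hA, hB, a, b, d, hT⟩ :=
    DerivedCategory.TStructure.t.exists_triangle C (-1) 0 (by omega)
  haveI : A.IsLE (-1) := ⟨hA⟩
  haveI : B.IsGE 0 := ⟨hB⟩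
  let H := DerivedCategory.homologyFunctor X.Modules
  haveI : A.IsGE (-1) := (DerivedCategory.isGE_iff _ _).2 fun i hi =>
    (DerivedCategory.HomologySequence.exact₁ _ hT (i - 1) i (by omega)).isZero_of_both_zeros
      ((DerivedCategory.isZero_of_isGE B 0 (i - 1) (by omega)).eq_of_src _ _)
      ((DerivedCategory.isZero_of_isGE C (-1) i hi).eq_of_tgt _ _)
  obtain ⟨V, ⟨e⟩⟩ := DerivedCategory.exists_iso_singleFunctor_obj_of_isGE_of_isLE A (-1)
  haveI : Mono ((H (-1)).map a) := (DerivedCategory.HomologySequence.mono_homologyMap_mor₁_iff _ hT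
    (-2) (-1) (by omega)).2 ((DerivedCategory.isZero_of_isGE B 0 (-2) (by omega)).eq_of_src _ _)
  haveI : Epi ((H (-1)).map a) := (DerivedCategory.HomologySequence.exact₂ _ hT (-1)).epi_f
    ((DerivedCategory.isZero_of_isGE B 0 (-1) (by omega)).eq_of_tgt _ _)
  haveI : IsIso ((H (-1)).map a) := isIso_of_mono_of_epi _
  let eV : DCoh.dualizingMod f h OY 1 ≅ V :=
    (asIso ((H (-1)).map a)).symm ≪≫ (H (-1)).mapIso e ≪≫ hSingle (-1) V
  let e1 : (DCoh.inD X (DCoh.dualizingMod f h OY 1))⟦(1 : ℤ)⟧ ≅ A :=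
    (shiftFunctor (DCoh.D X) (1 : ℤ)).mapIso ((DerivedCategory.singleFunctor X.Modules 0).mapIso eV) ≪≫
      ((DerivedCategory.singleFunctors X.Modules).shiftIso (1 : ℤ) (-1) 0 (by omega)).app V ≪≫ e.symm
  refine ⟨e1.hom ≫ a, fun F => ?_⟩
  have hb : Function.Bijective fun φ : F ⟶ DCoh.dualizingMod f h OY 1 =>
      ((DerivedCategory.singleFunctor X.Modules 0).map φ)⟦(1 : ℤ)⟧' ≫ e1.hom :=
    (Iso.homToEquiv e1).bijective.comp
      (⟨fun _ _ hh => (shiftFunctor (DCoh.D X) (1 : ℤ)).map_injective hh,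
        fun y => (shiftFunctor (DCoh.D X) (1 : ℤ)).map_surjective y⟩ : Function.Bijective _) |>.comp
      (⟨fun _ _ hh => (DerivedCategory.singleFunctor X.Modules 0).map_injective hh,
        fun y => (DerivedCategory.singleFunctor X.Modules 0).map_surjective y⟩ : Function.Bijective _)
  have ha : Function.Bijective fun z : (DCoh.inD X F)⟦(1 : ℤ)⟧ ⟶ A => z ≫ a := by
    haveI : DerivedCategory.IsLE ((DCoh.inD X F)⟦(1 : ℤ)⟧) (-1) :=
      DerivedCategory.TStructure.t.isLE_shift (DCoh.inD X F) 0 1 (-1) (by omega)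
    refine ⟨fun z z' hz => sub_eq_zero.1 ?_, fun z => ?_⟩
    · obtain ⟨w, hw⟩ := Triangle.coyoneda_exact₂ _ (inv_rot_of_distTriang _ hT) (z - z') (by
        show (z - z') ≫ a = 0
        rw [Preadditive.sub_comp]; exact sub_eq_zero.2 hz)
      rw [hw, show w = 0 from DerivedCategory.TStructure.t.zero_of_isLE_of_isGE w (-1) 1 (by omega)
        inferInstance (DerivedCategory.TStructure.t.isGE_shift B 0 (-1) 1 (by omega)), zero_comp]
    · obtain ⟨w, hw⟩ := Triangle.coyoneda_exact₂ _ hT z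
        (DerivedCategory.TStructure.t.zero_of_isLE_of_isGE _ (-1) 0 (by omega) inferInstance
          (show B.IsGE 0 from inferInstance))
      exact ⟨w, hw.symm⟩
  convert ha.comp hb using 1
  funext φ
  exact (Category.assoc _ _ _).symm

end Groth.Agent.CurveDual
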