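import Groth.Agent.KFlatLib.Scheme.RpushQCoh
import Groth.Agent.KFlatLib.Scheme.AffinePush
import Groth.Agent.CurveDual.Point
import Groth.Agent.KFlatLib.Scheme.BCMapLocal
import Groth.Agent.KFlatLib.Scheme.RpushTriangle
import Groth.Agent.QCoh.RpushGod

/-!
# Degree zero and one classes of direct images over a field
-/

set_option autoImplicit false
set_option linter.style.haveILetI false
set_option linter.unusedSectionVars false
set_option backward.isDefEq.respectTransparency false
set_option backward.isDefEq.respectTransparency.types false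
set_option maxHeartbeats 1000000

universe u

open CategoryTheory CategoryTheory.Limits CategoryTheory.Pretriangulated AlgebraicGeometry TopologicalSpace Opposite

attribute [local instance] HasDerivedCategory.standard

noncomputable section

namespace Groth.Agent.CurveDual

open Groth.Agent KFlatLib

variable {X Y : Scheme.{u}} (f : X ⟶ Y) [DCoh.HasRpush f]

/-- The comparison `f_* M → Rf_* M`. -/
def uMap (M : X.Modules) :
    DCoh.inD Y ((Scheme.Modules.pushforward f).obj M) ⟶ (DCoh.Rpush f).obj (DCoh.inD X M) :=
  (DerivedCategory.singleFunctorIsoCompQ Y.Modules 0).hom.app _ ≫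
    DerivedCategory.Q.map ((HomologicalComplex.singleMapHomologicalComplex (Scheme.Modules.pushforward f)
      (ComplexShape.up ℤ) 0).inv.app M) ≫
    (DerivedCategory.quotientCompQhIso Y.Modules).inv.app _ ≫
    DerivedCategory.Qh.map (((Scheme.Modules.pushforward f).mapHomotopyCategoryFactors
      (ComplexShape.up ℤ)).inv.app _) ≫
    ((DCoh.pushKh f).totalRightDerivedUnit DerivedCategory.Qh
      (HomotopyCategory.quasiIso X.Modules (ComplexShape.up ℤ))).app
        ((HomotopyCategory.quotient X.Modules (ComplexShape.up ℤ)).obj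
          ((HomologicalComplex.single X.Modules (ComplexShape.up ℤ) 0).obj M)) ≫
    (DCoh.Rpush f).map ((DerivedCategory.quotientCompQhIso X.Modules).hom.app _ ≫
      (DerivedCategory.singleFunctorIsoCompQ X.Modules 0).inv.app M)

@[reassoc]
theorem uMap_naturality {M N : X.Modules} (φ : M ⟶ N) :
    (DerivedCategory.singleFunctor Y.Modules 0).map ((Scheme.Modules.pushforward f).map φ) ≫ uMap f N =
      uMap f M ≫ (DCoh.Rpush f).map ((DerivedCategory.singleFunctor X.Modules 0).map φ) := by
  let sX := HomologicalComplex.single X.Modules (ComplexShape.up ℤ) 0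
  let sY := HomologicalComplex.single Y.Modules (ComplexShape.up ℤ) 0
  let P := Scheme.Modules.pushforward f
  have h1 := (DerivedCategory.singleFunctorIsoCompQ Y.Modules 0).hom.naturality (P.map φ)
  have h2 := congrArg DerivedCategory.Q.map
    ((HomologicalComplex.singleMapHomologicalComplex P (ComplexShape.up ℤ) 0).inv.naturality φ)
  have h3 := (DerivedCategory.quotientCompQhIso Y.Modules).inv.naturality
    ((P.mapHomologicalComplex (ComplexShape.up ℤ)).map (sX.map φ))
  have h4 := congrArg DerivedCategory.Qh.map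
    ((P.mapHomotopyCategoryFactors (ComplexShape.up ℤ)).inv.naturality (sX.map φ))
  have h5 := ((DCoh.pushKh f).totalRightDerivedUnit DerivedCategory.Qh
      (HomotopyCategory.quasiIso X.Modules (ComplexShape.up ℤ))).naturality
    ((HomotopyCategory.quotient X.Modules (ComplexShape.up ℤ)).map (sX.map φ))
  have h6 := (DerivedCategory.quotientCompQhIso X.Modules).hom.naturality (sX.map φ)
  have h7 := (DerivedCategory.singleFunctorIsoCompQ X.Modules 0).inv.naturality φ
  simp only [Functor.comp_map, Functor.map_comp] at h1 h2 h3 h4 h5 h6 h7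
  simp only [uMap, Category.assoc, ← Functor.map_comp]
  erw [reassoc_of% h1, reassoc_of% h2, reassoc_of% h3, reassoc_of% h4, reassoc_of% h5]
  congr 5
  rw [← Functor.map_comp]
  congr 1

theorem isIso_uMap (I : X.Modules) [Injective I] : IsIso (uMap f I) := by
  haveI : ∀ n, Injective (((HomologicalComplex.single X.Modules (ComplexShape.up ℤ) 0).obj I).X n) := fun n => by
    by_cases hn : n = 0
    · subst hn
      exact Injective.of_iso (HomologicalComplex.singleObjXSelf (ComplexShape.up ℤ) 0 I).symm ‹_›
    · exact (HomologicalComplex.isZero_single_obj_X _ _ _ _ hn).injective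
  haveI : CochainComplex.IsKInjective ((HomologicalComplex.single X.Modules (ComplexShape.up ℤ) 0).obj I) :=
    CochainComplex.isKInjective_of_injective _ 0
  haveI := isIso_unit_of_kInjective f ((HomologicalComplex.single X.Modules (ComplexShape.up ℤ) 0).obj I)
  unfold uMap
  infer_instance

theorem isGE_rpush_inD (M : X.Modules) : ((DCoh.Rpush f).obj (DCoh.inD X M)).IsGE 0 :=
  (DerivedCategory.isGE_iff _ _).2 fun i hi => isZero_hd_rpush_of_lt f _ 0 i hi

section Classes

variable {k : Type u} [Field k] (f : X ⟶ Spec (CommRingCat.of k)) [DCoh.HasRpush f]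

local notation "O'" => Coh.structureModule (Spec (CommRingCat.of k))

theorem eq_zero_of_shift {V : (Spec (CommRingCat.of k)).Modules} (n : ℤ) (hn : n ≠ 0)
    (y : DCoh.inD _ (O') ⟶ (DCoh.inD (Spec (CommRingCat.of k)) V)⟦n⟧) : y = 0 := by
  have hz : IsZero (DCoh.HD ((DCoh.inD (Spec (CommRingCat.of k)) V)⟦n⟧) 0) := by
    refine IsZero.of_iso ?_ (((DerivedCategory.homologyFunctor _ 0).shiftIso n 0 n (add_zero n)).app _)
    rcases lt_or_gt_of_ne hn with h | h
    · exact DerivedCategory.isZero_of_isGE _ 0 n h
    · exact DerivedCategory.isZero_of_isLE _ 0 n h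
  exact (bijective_ev _).1 (hz.eq_of_tgt _ _)

theorem eq_zero_of_GE {K : DCoh.D (Spec (CommRingCat.of k))} [K.IsGE 1] (y : DCoh.inD _ (O') ⟶ K) :
    y = 0 :=
  (bijective_ev _).1 ((DerivedCategory.isZero_of_isGE K 1 0 zero_lt_one).eq_of_tgt _ _)

/-- The unit section. -/
def oneMap : (O') ⟶ (Scheme.Modules.pushforward f).obj (Coh.structureModule X) :=
  InvX.ofSect (M := (Scheme.Modules.pushforward f).obj (Coh.structureModule X))
    (show Γ((Scheme.Modules.pushforward f).obj (Coh.structureModule X), ⊤) from
      (1 : Γ(X, f ⁻¹ᵁ ⊤)))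

/-- The unit in the derived category. -/
def eta : DCoh.inD _ (O') ⟶ (DCoh.Rpush f).obj (DCoh.inD X (Coh.structureModule X)) :=
  (DerivedCategory.singleFunctor _ 0).map (oneMap f) ≫ uMap f _

/-- Classes on `X` give classes of the direct image. -/
def beta {K : DCoh.D X} (x : DCoh.inD X (Coh.structureModule X) ⟶ K) :
    DCoh.inD _ (O') ⟶ (DCoh.Rpush f).obj K :=
  eta f ≫ (DCoh.Rpush f).map x

theorem beta_comp {K L : DCoh.D X} (x : DCoh.inD X (Coh.structureModule X) ⟶ K) (g : K ⟶ L) :
    beta f (x ≫ g) = beta f x ≫ (DCoh.Rpush f).map g := by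
  simp [beta, Functor.map_comp]

theorem beta_add {K : DCoh.D X} (x y : DCoh.inD X (Coh.structureModule X) ⟶ K) :
    beta f (x + y) = beta f x + beta f y := by
  haveI := KFlatLib.BCLoc.rpush_additive f
  simp only [beta, Functor.map_add, Preadditive.comp_add]

theorem beta_zero {K : DCoh.D X} : beta f (0 : DCoh.inD X (Coh.structureModule X) ⟶ K) = 0 := by
  haveI := KFlatLib.BCLoc.rpush_additive f
  simp only [beta, Functor.map_zero, comp_zero]

theorem beta_single {M : X.Modules} (g : Coh.structureModule X ⟶ M) :
    beta f ((DerivedCategory.singleFunctor X.Modules 0).map g) =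
      (DerivedCategory.singleFunctor _ 0).map (oneMap f ≫ (Scheme.Modules.pushforward f).map g) ≫ uMap f M := by
  rw [beta, eta, Functor.map_comp, Category.assoc, Category.assoc, uMap_naturality]

theorem bijective_oneMap_comp (M : X.Modules) :
    Function.Bijective fun g : Coh.structureModule X ⟶ M =>
      oneMap f ≫ (Scheme.Modules.pushforward f).map g := by
  have key : ∀ g : Coh.structureModule X ⟶ M,
      InvX.one (oneMap f ≫ (Scheme.Modules.pushforward f).map g) = InvX.one g := fun g => by
    rw [AmpleVan.one_comp, oneMap, InvX.one_ofSect]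
    rfl
  refine ⟨fun g g' h => ?_,
    fun w => ⟨InvX.ofSect (show Γ(M, ⊤) from InvX.one (L := (Scheme.Modules.pushforward f).obj M) w), ?_⟩⟩
  · have h' : InvX.one g = InvX.one g' :=
      (key g).symm.trans ((congrArg (InvX.one (L := (Scheme.Modules.pushforward f).obj M)) h).trans (key g'))
    exact (AVAmple.ofSect_one g).symm.trans ((congrArg InvX.ofSect h').trans (AVAmple.ofSect_one g'))
  · refine (AVAmple.ofSect_one _).symm.trans ((congrArg InvX.ofSect ((key _).trans ?_)).trans (AVAmple.ofSect_one w))
    exact InvX.one_ofSect _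

/-- Degree zero on an injective. -/
theorem bijective_beta_injective (I : X.Modules) [Injective I] :
    Function.Bijective (beta f (K := DCoh.inD X I)) := by
  haveI := isIso_uMap f I
  refine (Function.Bijective.of_comp_iff _
    (⟨fun a b h => (DerivedCategory.singleFunctor X.Modules 0).map_injective h,
      fun y => (DerivedCategory.singleFunctor X.Modules 0).map_surjective y⟩ :
      Function.Bijective fun g : Coh.structureModule X ⟶ I =>
        (DerivedCategory.singleFunctor X.Modules 0).map g)).1 ?_
  rw [show beta f ∘ (fun g : Coh.structureModule X ⟶ I => (DerivedCategory.singleFunctor X.Modules 0).map g) =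
    (fun w => (DerivedCategory.singleFunctor _ 0).map w ≫ uMap f I) ∘
      fun g => oneMap f ≫ (Scheme.Modules.pushforward f).map g from funext fun g => beta_single f g]
  refine Function.Bijective.comp ?_ (bijective_oneMap_comp f I)
  exact (Iso.homToEquiv (asIso (uMap f I))).bijective.comp
    ⟨fun a b h => (DerivedCategory.singleFunctor _ 0).map_injective h,
      fun y => (DerivedCategory.singleFunctor _ 0).map_surjective y⟩

/-- The sequence of an embedding into an injective. -/
abbrev injSeq (M : X.Modules) : ShortComplex X.Modules :=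
  haveI := IsGrothendieckAbelian.enoughInjectives (C := X.Modules)
  ShortComplex.mk (Injective.ι M) (cokernel.π (Injective.ι M)) (cokernel.condition _)

theorem injSeq_shortExact (M : X.Modules) : (injSeq M).ShortExact :=
  haveI := IsGrothendieckAbelian.enoughInjectives (C := X.Modules)
  { exact := ShortComplex.exact_of_g_is_cokernel _ (cokernelIsCokernel _) }

instance injective_injSeq (M : X.Modules) : Injective (injSeq M).X₂ :=
  haveI := IsGrothendieckAbelian.enoughInjectives (C := X.Modules)
  inferInstanceAs (Injective (Injective.under M))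

/-- Degree zero classes inject along monomorphisms. -/
theorem mono_rpush_f {S : ShortComplex X.Modules} (hS : S.ShortExact)
    (y : DCoh.inD _ (O') ⟶ (DCoh.Rpush f).obj (DCoh.inD X S.X₁))
    (hy : y ≫ (DCoh.Rpush f).map ((DerivedCategory.singleFunctor X.Modules 0).map S.f) = 0) : y = 0 := by
  have hT := inv_rot_of_distTriang _ hS.singleTriangle_distinguished
  obtain ⟨c, hc⟩ := exists_rpush_triangle f _ hT
  obtain ⟨z, hz⟩ := Triangle.coyoneda_exact₂ _ hc y hy
  haveI : ((hS.singleTriangle).invRotate.obj₁).IsGE 1 :=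
    DerivedCategory.TStructure.t.isGE_shift (DCoh.inD X S.X₃) 0 (-1) 1 (by omega)
  haveI := isGE_rpush f (hS.singleTriangle).invRotate.obj₁ 1
  haveI : DerivedCategory.IsGE (Triangle.mk ((DCoh.Rpush f).map hS.singleTriangle.invRotate.mor₁)
      ((DCoh.Rpush f).map hS.singleTriangle.invRotate.mor₂) c).obj₁ 1 := ‹_›
  rw [hz, show z = 0 from eq_zero_of_GE z, zero_comp]

theorem injective_beta₀ (M : X.Modules) : Function.Injective (beta f (K := DCoh.inD X M)) := by
  intro a b h
  obtain ⟨a, rfl⟩ := (DerivedCategory.singleFunctor X.Modules 0).map_surjective a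
  obtain ⟨b, rfl⟩ := (DerivedCategory.singleFunctor X.Modules 0).map_surjective b
  refine congrArg _ ((cancel_mono (injSeq M).f).1 ?_)
  haveI := (injSeq_shortExact M).mono_f
  apply (DerivedCategory.singleFunctor X.Modules 0).map_injective
  apply (bijective_beta_injective f (injSeq M).X₂).1
  rw [Functor.map_comp, Functor.map_comp, beta_comp, beta_comp, h]

theorem bijective_beta₀ (M : X.Modules) : Function.Bijective (beta f (K := DCoh.inD X M)) := by
  refine ⟨injective_beta₀ f M, fun y => ?_⟩
  haveI := KFlatLib.BCLoc.rpush_additive f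
  let S := injSeq M
  let s := DerivedCategory.singleFunctor X.Modules 0
  have hS := injSeq_shortExact M
  obtain ⟨x, hx⟩ := (bijective_beta_injective f S.X₂).2 (y ≫ (DCoh.Rpush f).map (s.map S.f))
  obtain ⟨g, rfl⟩ := s.map_surjective x
  have h0 : s.map (g ≫ S.g) = 0 := injective_beta₀ f S.X₃ (by
    rw [Functor.map_comp, beta_comp, hx, Category.assoc, ← Functor.map_comp, ← Functor.map_comp,
      S.zero, Functor.map_zero, Functor.map_zero, comp_zero, beta_zero])
  haveI := hS.mono_f
  obtain ⟨h, hh⟩ : ∃ h, h ≫ S.f = g :=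
    ⟨hS.exact.lift g (s.map_injective (h0.trans (s.map_zero _ _).symm)), hS.exact.lift_f _ _⟩
  refine ⟨s.map h, sub_eq_zero.1 (mono_rpush_f f hS _ ?_)⟩
  rw [Preadditive.sub_comp, ← beta_comp, ← Functor.map_comp, hh, hx, sub_self]

theorem eq_zero_of_injective [HasExt.{u} X.Modules] {M I : X.Modules} [Injective I]
    (x : DCoh.inD X M ⟶ (DCoh.inD X I)⟦(1 : ℤ)⟧) : x = 0 := by
  obtain ⟨e, rfl⟩ : ∃ e : Abelian.Ext.{u} M I 1, e.hom = x :=
    ⟨Abelian.Ext.homEquiv.symm x, Abelian.Ext.homEquiv.apply_symm_apply x⟩
  rw [Abelian.Ext.eq_zero_of_injective e, Abelian.Ext.zero_hom]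

/-- Classes of degree one on `X` are those of the direct image. -/
theorem bijective_beta₁ (M : X.Modules) :
    Function.Bijective (beta f (K := (DCoh.inD X M)⟦(1 : ℤ)⟧)) := by
  haveI : HasExt.{u} X.Modules := IsGrothendieckAbelian.hasExt _
  haveI := KFlatLib.BCLoc.rpush_additive f
  let S := injSeq M
  let s := DerivedCategory.singleFunctor X.Modules 0
  have hS := injSeq_shortExact M
  have hT := hS.singleTriangle_distinguished
  obtain ⟨c, hc⟩ := exists_rpush_triangle f _ (rot_of_distTriang _ hT)
  refine ⟨(injective_iff_map_eq_zero (AddMonoidHom.mk' _ (beta_add f))).2 fun x hx => ?_, fun y => ?_⟩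
  · replace hx : beta f x = 0 := hx
    obtain ⟨g, rfl⟩ := Triangle.coyoneda_exact₁ _ hT x (eq_zero_of_injective _)
    rw [beta_comp] at hx
    obtain ⟨w, hw⟩ := Triangle.coyoneda_exact₂ _ hc (beta f g) hx
    obtain ⟨g', rfl⟩ := (bijective_beta₀ f S.X₂).2 w
    have hg : g = g' ≫ s.map S.g := (bijective_beta₀ f S.X₃).1 (hw.trans (beta_comp f g' _).symm)
    rw [hg, Category.assoc]
    erw [comp_distTriang_mor_zero₂₃ _ hT, comp_zero]
  · obtain ⟨w, hw⟩ := Triangle.coyoneda_exact₃ _ hc y (by
      haveI := isIso_uMap f S.X₂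
      have hz := eq_zero_of_shift (V := (Scheme.Modules.pushforward f).obj S.X₂) 1 one_ne_zero
        ((y ≫ c) ≫ (inv (uMap f S.X₂))⟦(1 : ℤ)⟧')
      exact (cancel_mono ((inv (uMap f S.X₂))⟦(1 : ℤ)⟧')).1 (hz.trans zero_comp.symm))
    obtain ⟨g, rfl⟩ := (bijective_beta₀ f S.X₃).2 w
    exact ⟨g ≫ hS.singleTriangle.mor₃, (beta_comp f g _).trans hw.symm⟩

end Classes

end Groth.Agent.CurveDual
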